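import Cfsg.Agent.Lib.CNOdd.Strong
import Cfsg.Agent.Lib.CNFinish.Finish
import Cfsg.Agent.S1473

/-!
# CN-groups of odd order are solvable

In a minimal counterexample the kernels `P ⊔ C(P)` are TI Frobenius kernels of pairwise coprime
order up to conjugacy covering the group, and no such group exists.
-/

set_option autoImplicit false
set_option linter.style.haveILetI false

namespace Cfsg.Agent.CNOdd

open Cfsg

universe u

variable {G : Type u} [Group G] [Finite G]

/-- `K` is the kernel attached to some nontrivial Sylow subgroup. -/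
def IsKernel (K : Subgroup G) : Prop :=
  ∃ p : ℕ, ∃ _ : Fact p.Prime, ∃ P : Sylow p G, (P : Subgroup G) ≠ ⊥ ∧
    K = kernelOf (P : Subgroup G)

/-- Kernels with a common prime are conjugate. -/
theorem IsKernel.conj_or_coprime (hCN : IsCNGroup G) {K L : Subgroup G} (hK : IsKernel K)
    (hL : IsKernel L) :
    (∃ g : G, K.map (MulAut.conj g).toMonoidHom = L) ∨ (Nat.card K).Coprime (Nat.card L) := by
  by_cases hc : (Nat.card K).Coprime (Nat.card L)
  · exact Or.inr hc
  left
  obtain ⟨r, hr, hrK, hrL⟩ := Nat.Prime.not_coprime_iff_dvd.1 hc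
  haveI := Fact.mk hr
  obtain ⟨p, hp, P, hP, rfl⟩ := hK
  obtain ⟨q, hq, Q, hQ, rfl⟩ := hL
  obtain ⟨R, hR, hR1⟩ := exists_sylow_le hCN P hP hrK
  obtain ⟨S, hS, hS1⟩ := exists_sylow_le hCN Q hQ hrL
  obtain ⟨g, hg⟩ := MulAction.exists_smul_eq G R S
  refine ⟨g, ?_⟩
  rw [← kernelOf_eq hCN P hP R hR1 hR, ← kernelOf_eq hCN Q hQ S hS1 hS, map_kernelOf, ← hg]
  rfl

section Simple

variable (hodd : Odd (Nat.card G)) [IsSimpleGroup G] (hnc : ¬ IsMulCommutative G)
  (hsolv : ∀ H : Subgroup G, H ≠ ⊤ → Group.IsSolvable H) (hCN : IsCNGroup G)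

include hodd hnc hsolv hCN

theorem IsKernel.pair {K : Subgroup G} (hK : IsKernel K) :
    CNFinish.IsKernelPair K (Subgroup.normalizer (K : Set G)) := by
  obtain ⟨p, hp, P, hP, rfl⟩ := hK
  refine ⟨kernel_lt_normalizer hodd hnc hsolv hCN P hP,
    fun h => hP (le_bot_iff.1 (h ▸ le_kernelOf _)),
    fun x hx h hh => (Subgroup.mem_normalizer_iff.1 hx h).1 hh,
    fun h hh h1 x _ hxh => kernel_centralizer hodd hnc hsolv hCN P hP hh h1
      (Subgroup.mem_centralizer_singleton_iff.2 hxh), ?_⟩
  intro g hg h hh hgh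
  by_contra h1
  exact hg (kernel_ti hodd hnc hsolv hCN P hP hh hgh h1)

/-- Every nontrivial element lies in a kernel. -/
theorem exists_kernel_mem {g : G} (hg : g ≠ 1) : ∃ K : Subgroup G, IsKernel K ∧ g ∈ K := by
  obtain ⟨r, hr, hrd⟩ := Nat.exists_prime_and_dvd (mt orderOf_eq_one_iff.1 hg)
  haveI := Fact.mk hr
  have hyo : orderOf (g ^ (orderOf g / r)) = r := orderOf_pow_orderOf_div (orderOf_pos g).ne' hrd
  have hy1 : g ^ (orderOf g / r) ≠ 1 := fun h => hr.ne_one (by rw [← hyo, h, orderOf_one])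
  have hz : IsPGroup r (Subgroup.zpowers (g ^ (orderOf g / r))) :=
    IsPGroup.of_card (n := 1) (by rw [Nat.card_zpowers, hyo, pow_one])
  obtain ⟨P, hP⟩ := hz.exists_le_sylow
  have hyP : g ^ (orderOf g / r) ∈ (P : Subgroup G) := hP (Subgroup.mem_zpowers _)
  have hP1 : (P : Subgroup G) ≠ ⊥ := fun h => hy1 (Subgroup.mem_bot.1 (h ▸ hyP))
  refine ⟨_, ⟨r, inferInstance, P, hP1, rfl⟩,
    kernel_centralizer hodd hnc hsolv hCN P hP1 (le_kernelOf _ hyP) hy1 ?_⟩
  exact Subgroup.mem_centralizer_singleton_iff.2 (Commute.self_pow g _).eq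

/-- No minimal simple group of odd order is a CN-group. -/
theorem false_of_simple : False := by
  classical
  haveI : Fintype G := Fintype.ofFinite G
  let T := {K : Subgroup G // IsKernel K}
  let s : Setoid T :=
    { r := fun K L => ∃ g : G, K.1.map (MulAut.conj g).toMonoidHom = L.1
      iseqv := by
        refine ⟨fun K => ⟨1, ?_⟩, ?_, ?_⟩
        · ext x
          simp
        · rintro K L ⟨g, hg⟩
          refine ⟨g⁻¹, ?_⟩
          rw [← hg, Subgroup.map_map]
          ext x
          simp [mul_assoc]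
        · rintro K L M ⟨g, hg⟩ ⟨k, hk⟩
          refine ⟨k * g, ?_⟩
          rw [← hk, ← hg, Subgroup.map_map]
          ext x
          simp [mul_assoc] }
  let ι := Quotient s
  haveI : Fintype ι := Fintype.ofFinite ι
  let H : ι → Subgroup G := fun i => i.out.1
  have hH : ∀ i, IsKernel (H i) := fun i => i.out.2
  have hcop : ∀ i j, i ≠ j → Nat.Coprime (Nat.card (H i)) (Nat.card (H j)) := fun i j hij =>
    ((hH i).conj_or_coprime hCN (hH j)).resolve_left fun h =>
      hij (by rw [← Quotient.out_eq i, ← Quotient.out_eq j]; exact Quotient.sound h)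
  have hcover : ∀ g : G, g ≠ 1 → ∃ i, ∃ x : G, x * g * x⁻¹ ∈ H i := by
    intro g hg
    obtain ⟨K, hK, hgK⟩ := exists_kernel_mem hodd hnc hsolv hCN hg
    obtain ⟨x, hx⟩ := Quotient.exact (Quotient.out_eq (Quotient.mk s ⟨K, hK⟩)).symm
    refine ⟨Quotient.mk s ⟨K, hK⟩, x, ?_⟩
    show _ ∈ (Quotient.mk s ⟨K, hK⟩).out.1
    rw [← hx]
    exact ⟨g, hgK, rfl⟩
  have hι : 2 ≤ Fintype.card ι := by
    by_contra hlt
    haveI : Subsingleton ι := Fintype.card_le_one_iff_subsingleton.1 (by omega)
    haveI : Nontrivial G := IsSimpleGroup.toNontrivial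
    obtain ⟨g, hg⟩ := exists_ne (1 : G)
    obtain ⟨i, x, hx⟩ := hcover g hg
    -- the order of one kernel is divisible by every prime divisor of the order of `G`
    have hind : (H i).index = 1 := by
      rw [Nat.eq_one_iff_not_exists_prime_dvd]
      intro r hr hd
      haveI := Fact.mk hr
      obtain ⟨y, hy⟩ := exists_prime_orderOf_dvd_card' r (hd.trans (H i).index_dvd_card)
      obtain ⟨j, z, hz⟩ := hcover y fun h => hr.ne_one (by rw [← hy, h, orderOf_one])
      have hrH : r ∣ Nat.card (H i) := by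
        rw [Subsingleton.elim i j, ← hy, ← MulEquiv.orderOf_eq (MulAut.conj z) y,
          MulAut.conj_apply]
        exact Subgroup.orderOf_dvd_natCard _ hz
      obtain ⟨p, hp, P, hP, hHP⟩ := hH i
      rw [hHP] at hrH hd
      exact hr.ne_one (Nat.eq_one_of_dvd_coprimes (kernelOf_hall hCN P hP) hrH hd)
    rw [Subgroup.index_eq_one] at hind
    obtain ⟨p, hp, P, hP, hHP⟩ := hH i
    haveI : Group.IsNilpotent (H i) := hHP ▸ kernelOf_nilpotent hCN P hP
    exact ne_top_of_solvable hnc hsolv (H i) hind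
  refine CNFinish.no_partition hodd hι (fun i => Subgroup.normalizer (H i : Set G)) H
    (fun i => (hH i).pair hodd hnc hsolv hCN) (fun i => rfl) hcop ?_ hcover
  intro i g hg x hx hgx
  exact ((hH i).pair hodd hnc hsolv hCN).ti g hg x hx hgx

end Simple

omit [Finite G] in
theorem cn_subgroup (hCN : IsCNGroup G) (H : Subgroup G) : IsCNGroup H := by
  intro g hg
  have h1 : (Subgroup.centralizer ({g} : Set H)).map H.subtype ≤
      Subgroup.centralizer ({(g : G)} : Set G) := by
    rintro _ ⟨c, hc, rfl⟩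
    exact Subgroup.mem_centralizer_singleton_iff.2
      (congrArg Subtype.val (Subgroup.mem_centralizer_singleton_iff.1 hc))
  haveI := nilpotent_mono h1 (hCN (g : G) fun h => hg (Subtype.ext h))
  exact (Group.isNilpotent_congr ((Subgroup.centralizer ({g} : Set H)).equivMapOfInjective
    H.subtype H.subtype_injective)).2 inferInstance

theorem isSolvable_of_cn_aux : ∀ n : ℕ, ∀ (G : Type u) [Group G] [Finite G],
    Nat.card G ≤ n → Odd (Nat.card G) → IsCNGroup G → Group.IsSolvable G := by
  intro n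
  induction n with
  | zero =>
    intro G _ _ h _ _
    exact absurd h (Nat.card_pos (α := G)).ne'.bot_lt.not_ge
  | succ n ih =>
    intro G _ _ hle hodd hCN
    have hsub : ∀ H : Subgroup G, H ≠ ⊤ → Group.IsSolvable H := by
      intro H hH
      refine ih H ?_ (Odd.of_dvd_nat hodd (Subgroup.card_subgroup_dvd_card H)) (cn_subgroup hCN H)
      have := H.card_le_card_group
      have : Nat.card H ≠ Nat.card G := fun h => hH (Subgroup.eq_top_of_card_eq H h)
      omega
    by_cases hN : ∃ N : Subgroup G, N.Normal ∧ N ≠ ⊥ ∧ N ≠ ⊤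
    · obtain ⟨N, hNn, hN1, hN2⟩ := hN
      haveI := hsub N hN2
      have hq : Group.IsSolvable (G ⧸ N) := by
        refine ih (G ⧸ N) ?_ (Odd.of_dvd_nat hodd N.card_quotient_dvd_card)
          (Cfsg.Agent.S1473.result hCN N inferInstance)
        have h1 := N.card_eq_card_quotient_mul_card_subgroup
        have h2 : 2 ≤ Nat.card N := by
          haveI := (Subgroup.nontrivial_iff_ne_bot N).2 hN1
          exact Finite.one_lt_card
        nlinarith [Nat.card_pos (α := G ⧸ N)]
      exact Group.isSolvable_of_ker_le_range N.subtype (QuotientGroup.mk' N) (by simp)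
    · by_cases hc : IsMulCommutative G
      · exact Group.isSolvable_of_comm fun a b => hc.is_comm.comm a b
      · push Not at hN
        haveI : Nontrivial G := by
          by_contra h
          rw [not_nontrivial_iff_subsingleton] at h
          exact hc ⟨⟨fun a b => Subsingleton.elim _ _⟩⟩
        haveI : IsSimpleGroup G := ⟨fun N hN' => or_iff_not_imp_left.2 (hN N hN')⟩
        exact (false_of_simple hodd hc hsub hCN).elim

/-- Feit–Hall–Thompson: CN-groups of odd order are solvable. -/
theorem isSolvable_of_cn (hodd : Odd (Nat.card G)) (hCN : IsCNGroup G) : Group.IsSolvable G :=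
  isSolvable_of_cn_aux _ G le_rfl hodd hCN

end Cfsg.Agent.CNOdd
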