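import Cfsg.Prelude.Def_LieExceptional
import Cfsg.Agent.Lib.Char.PiPart
import Cfsg.Agent.Lib.Hall.Carter

/-!
# The nilpotent Hall subgroup attached to a Sylow subgroup of a CN-group

In a CN-group two Sylow subgroups for different primes containing commuting nontrivial elements
commute elementwise.  So `P ⊔ C(P)` is a nilpotent Hall subgroup, the largest nilpotent subgroup
containing `P`.
-/

set_option autoImplicit false

namespace Cfsg.Agent.CNOdd

open Cfsg

variable {G : Type*} [Group G]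

/-- The largest nilpotent subgroup containing a Sylow subgroup `P`. -/
def kernelOf (P : Subgroup G) : Subgroup G := P ⊔ Subgroup.centralizer (P : Set G)

theorem le_kernelOf (P : Subgroup G) : P ≤ kernelOf P := le_sup_left

theorem centralizer_le_kernelOf (P : Subgroup G) :
    Subgroup.centralizer (P : Set G) ≤ kernelOf P := le_sup_right

theorem map_kernelOf (f : G ≃* G) (P : Subgroup G) :
    (kernelOf P).map f.toMonoidHom = kernelOf (P.map f.toMonoidHom) := by
  unfold kernelOf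
  rw [Subgroup.map_sup]
  congr 1
  ext x
  simp only [Subgroup.mem_map, Subgroup.mem_centralizer_iff, MulEquiv.coe_toMonoidHom, SetLike.mem_coe]
  constructor
  · rintro ⟨c, hc, rfl⟩ _ ⟨a, ha, rfl⟩
    rw [← map_mul, hc a ha, map_mul]
  · intro h
    refine ⟨f.symm x, fun a ha => f.injective ?_, f.apply_symm_apply x⟩
    rw [map_mul, map_mul, f.apply_symm_apply]
    exact h (f a) ⟨a, ha, rfl⟩

theorem normalizer_le_normalizer_kernelOf (P : Subgroup G) :
    Subgroup.normalizer (P : Set G) ≤ Subgroup.normalizer (kernelOf P : Set G) := by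
  intro g hg
  have hmap : P.map (MulAut.conj g).toMonoidHom = P := by
    ext x
    constructor
    · rintro ⟨a, ha, rfl⟩
      exact (Subgroup.mem_normalizer_iff.1 hg a).1 ha
    · intro hx
      refine ⟨g⁻¹ * x * g, ?_, by simp [mul_assoc]⟩
      have := (Subgroup.mem_normalizer_iff.1 (inv_mem hg) x).1 hx
      rwa [inv_inv] at this
  have hK : (kernelOf P).map (MulAut.conj g).toMonoidHom = kernelOf P := by
    rw [map_kernelOf, hmap]
  rw [Subgroup.mem_normalizer_iff]
  intro x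
  constructor
  · intro hx
    rw [← hK]
    exact ⟨x, hx, rfl⟩
  · intro hx
    rw [← hK] at hx
    obtain ⟨y, hy, e⟩ := hx
    have : y = x := (MulAut.conj g).injective e
    exact this ▸ hy

/-- The `p`-part and `p'`-part of an element. -/
theorem exists_parts [Finite G] (g : G) (p : ℕ) [Fact p.Prime] :
    ∃ u v : G, g = u * v ∧ u ∈ Subgroup.zpowers g ∧ v ∈ Subgroup.zpowers g ∧
      (∃ k, u ^ p ^ k = 1) ∧ (orderOf v).Coprime p := by
  obtain ⟨a, m, hm, hn⟩ := Nat.exists_eq_pow_mul_and_not_dvd (orderOf_pos g).ne' p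
    (Fact.out : p.Prime).ne_one
  have hcop : Int.gcd (p ^ a : ℤ) (m : ℤ) = 1 := by
    rw [show (p ^ a : ℤ) = ((p ^ a : ℕ) : ℤ) by push_cast; ring, Int.gcd_natCast_natCast]
    exact ((Fact.out : p.Prime).coprime_iff_not_dvd.2 hm).pow_left a
  have hb := Int.gcd_eq_gcd_ab (p ^ a : ℤ) (m : ℤ)
  rw [hcop] at hb
  refine ⟨g ^ ((m : ℤ) * Int.gcdB (p ^ a : ℤ) m), g ^ ((p ^ a : ℤ) * Int.gcdA (p ^ a : ℤ) m),
    ?_, Subgroup.zpow_mem_zpowers g _, Subgroup.zpow_mem_zpowers g _, ⟨a, ?_⟩, ?_⟩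
  · rw [← zpow_add, add_comm, ← hb]; simp
  · rw [← zpow_natCast, ← zpow_mul]
    refine orderOf_dvd_iff_zpow_eq_one.1 ?_
    rw [hn]; push_cast
    exact ⟨Int.gcdB (p ^ a : ℤ) m, by ring⟩
  · refine Nat.Coprime.coprime_dvd_left (k := m) (orderOf_dvd_of_pow_eq_one ?_)
      ((Fact.out : p.Prime).coprime_iff_not_dvd.2 hm).symm
    rw [← zpow_natCast, ← zpow_mul]
    refine orderOf_dvd_iff_zpow_eq_one.1 ?_
    rw [hn]; push_cast
    exact ⟨Int.gcdA (p ^ a : ℤ) m, by ring⟩

theorem coprime_of_pow {p q : ℕ} (hp : p.Prime) (hq : q.Prime) (hpq : p ≠ q) {x y : G} {a b : ℕ}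
    (hx : x ^ p ^ a = 1) (hy : y ^ q ^ b = 1) : (orderOf x).Coprime (orderOf y) :=
  ((((Nat.coprime_primes hp hq).2 hpq).pow_left a).pow_right b).coprime_dvd_left
    (orderOf_dvd_of_pow_eq_one hx) |>.coprime_dvd_right (orderOf_dvd_of_pow_eq_one hy)

theorem nilpotent_mono {H K : Subgroup G} (h : H ≤ K) (hK : Group.IsNilpotent K) :
    Group.IsNilpotent H :=
  haveI := hK
  (Group.isNilpotent_congr (Subgroup.subgroupOfEquivOfLe h)).1 inferInstance

theorem commute_in_nilpotent [Finite G] {N : Subgroup G} (hN : Group.IsNilpotent N) {a b : G}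
    (ha : a ∈ N) (hb : b ∈ N) (h : (orderOf a).Coprime (orderOf b)) : a * b = b * a := by
  haveI := hN
  have h' : (orderOf (⟨a, ha⟩ : N)).Coprime (orderOf (⟨b, hb⟩ : N)) := by
    rwa [← Subgroup.orderOf_coe, ← Subgroup.orderOf_coe]
  exact congrArg Subtype.val (CfsgLib.Char.PiPart.commute_of_coprime h').eq

variable {p : ℕ} [hp : Fact p.Prime]

theorem sylow_pow_eq_one (P : Sylow p G) {x : G} (hx : x ∈ (P : Subgroup G)) :
    ∃ k, x ^ p ^ k = 1 := by
  obtain ⟨k, hk⟩ := P.2 ⟨x, hx⟩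
  exact ⟨k, by simpa using congrArg Subtype.val hk⟩

/-- A `p`-element of a nilpotent subgroup containing a Sylow `p`-subgroup lies in the latter. -/
theorem mem_sylow_of_nilpotent [Finite G] (P : Sylow p G) {N : Subgroup G}
    (hN : Group.IsNilpotent N) (hPN : (P : Subgroup G) ≤ N) {u : G} (hu : u ∈ N) {k : ℕ}
    (hk : u ^ p ^ k = 1) : u ∈ (P : Subgroup G) := by
  haveI := hN
  set P' : Sylow p N := P.subtype hPN with hP'
  have hn : (P' : Subgroup N).Normal := inferInstance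
  have hz : IsPGroup p (Subgroup.zpowers (⟨u, hu⟩ : N)) := by
    refine IsPGroup.of_card (n := Nat.log p (orderOf (⟨u, hu⟩ : N))) ?_
    obtain ⟨j, -, hj⟩ := (Nat.dvd_prime_pow hp.out).1
      (orderOf_dvd_of_pow_eq_one (show (⟨u, hu⟩ : N) ^ p ^ k = 1 from Subtype.ext hk))
    rw [Nat.card_zpowers, hj, Nat.log_pow hp.out.one_lt]
  have hle : Subgroup.zpowers (⟨u, hu⟩ : N) ≤ (P' : Subgroup N) :=
    le_sup_left.trans (P'.3 (hz.to_sup_of_normal_right P'.2) le_sup_right).le
  exact hle (Subgroup.mem_zpowers _)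

/-- A nilpotent subgroup containing `P` lies in `P ⊔ C(P)`. -/
theorem le_kernelOf_of_nilpotent [Finite G] (P : Sylow p G) {N : Subgroup G}
    (hN : Group.IsNilpotent N) (hPN : (P : Subgroup G) ≤ N) : N ≤ kernelOf (P : Subgroup G) := by
  intro g hg
  obtain ⟨u, v, rfl, hu, hv, ⟨k, hk⟩, hvc⟩ := exists_parts g p
  have huN : u ∈ N := (Subgroup.zpowers_le.2 hg) hu
  have hvN : v ∈ N := (Subgroup.zpowers_le.2 hg) hv
  refine mul_mem (le_kernelOf _ (mem_sylow_of_nilpotent P hN hPN huN hk)) (centralizer_le_kernelOf _ ?_)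
  rw [Subgroup.mem_centralizer_iff]
  intro a ha
  obtain ⟨j, hj⟩ := sylow_pow_eq_one P ha
  exact commute_in_nilpotent hN (hPN ha) hvN
    (((hvc.pow_right j).coprime_dvd_right (orderOf_dvd_of_pow_eq_one hj)).symm)

theorem exists_central (P : Sylow p G) [Finite G] (hP : (P : Subgroup G) ≠ ⊥) :
    ∃ z ∈ (P : Subgroup G), z ≠ 1 ∧ ∀ a ∈ (P : Subgroup G), a * z = z * a := by
  haveI := (Subgroup.nontrivial_iff_ne_bot _).2 hP
  haveI := P.2.center_nontrivial
  obtain ⟨⟨z, hz⟩, hz1⟩ := exists_ne (1 : Subgroup.center (P : Subgroup G))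
  exact ⟨z, z.2, fun h => hz1 (Subtype.ext (Subtype.ext h)),
    fun a ha => congrArg Subtype.val (Subgroup.mem_center_iff.1 hz ⟨a, ha⟩)⟩

theorem kernelOf_nilpotent [Finite G] (hCN : IsCNGroup G) (P : Sylow p G)
    (hP : (P : Subgroup G) ≠ ⊥) : Group.IsNilpotent (kernelOf (P : Subgroup G)) := by
  obtain ⟨z, hz, hz1, hc⟩ := exists_central P hP
  refine nilpotent_mono (sup_le (fun a ha => ?_) (fun a ha => ?_)) (hCN z hz1)
  · exact Subgroup.mem_centralizer_singleton_iff.2 (hc a ha)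
  · exact Subgroup.mem_centralizer_singleton_iff.2 (Subgroup.mem_centralizer_iff.1 ha z hz).symm

theorem commute_of_cn [Finite G] (hCN : IsCNGroup G) {x a b : G} (hx : x ≠ 1) (ha : a * x = x * a)
    (hb : b * x = x * b) (h : (orderOf a).Coprime (orderOf b)) : a * b = b * a :=
  commute_in_nilpotent (hCN x hx) (Subgroup.mem_centralizer_singleton_iff.2 ha)
    (Subgroup.mem_centralizer_singleton_iff.2 hb) h

variable {q : ℕ} [hq : Fact q.Prime]

/-- Sylow subgroups for different primes with commuting nontrivial elements commute. -/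
theorem sylow_commute [Finite G] (hCN : IsCNGroup G) (hpq : p ≠ q) (P : Sylow p G) (Q : Sylow q G)
    {x y : G} (hx : x ∈ (P : Subgroup G)) (hy : y ∈ (Q : Subgroup G)) (hx1 : x ≠ 1) (hy1 : y ≠ 1)
    (hxy : x * y = y * x) :
    ∀ a ∈ (P : Subgroup G), ∀ b ∈ (Q : Subgroup G), a * b = b * a := by
  have hcop : ∀ a ∈ (P : Subgroup G), ∀ b ∈ (Q : Subgroup G),
      (orderOf a).Coprime (orderOf b) := fun a ha b hb => by
    obtain ⟨i, hi⟩ := sylow_pow_eq_one P ha
    obtain ⟨j, hj⟩ := sylow_pow_eq_one Q hb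
    exact coprime_of_pow hp.out hq.out hpq hi hj
  have hP : (P : Subgroup G) ≠ ⊥ := fun h => hx1 (Subgroup.mem_bot.1 (h ▸ hx))
  have hQ : (Q : Subgroup G) ≠ ⊥ := fun h => hy1 (Subgroup.mem_bot.1 (h ▸ hy))
  obtain ⟨z, hz, hz1, hzc⟩ := exists_central P hP
  obtain ⟨w, hw, hw1, hwc⟩ := exists_central Q hQ
  have hzy : z * y = y * z := commute_of_cn hCN hx1 (hzc x hx).symm hxy.symm (hcop z hz y hy)
  have hPy : ∀ a ∈ (P : Subgroup G), a * y = y * a := fun a ha =>
    commute_of_cn hCN hz1 (hzc a ha) hzy.symm (hcop a ha y hy)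
  intro a ha b hb
  rcases eq_or_ne a 1 with rfl | ha1
  · simp
  have haw : a * w = w * a :=
    commute_of_cn hCN hy1 (hPy a ha) (hwc y hy).symm (hcop a ha w hw)
  exact commute_of_cn hCN hw1 haw (hwc b hb) (hcop a ha b hb)

/-- The kernel of `P` contains a full Sylow `q`-subgroup for every prime `q` dividing its order. -/
theorem exists_sylow_le [Finite G] (hCN : IsCNGroup G) (P : Sylow p G) (hP : (P : Subgroup G) ≠ ⊥)
    (hd : q ∣ Nat.card (kernelOf (P : Subgroup G))) :
    ∃ Q : Sylow q G, (Q : Subgroup G) ≤ kernelOf (P : Subgroup G) ∧ (Q : Subgroup G) ≠ ⊥ := by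
  obtain ⟨⟨y, hy⟩, hyo⟩ := exists_prime_orderOf_dvd_card' q hd
  rw [Subgroup.orderOf_mk] at hyo
  have hy1 : y ≠ 1 := fun h => hq.out.ne_one (by rw [← hyo, h, orderOf_one])
  by_cases hpq : p = q
  · subst hpq
    exact ⟨P, le_kernelOf _, hP⟩
  have hyq : IsPGroup q (Subgroup.zpowers y) :=
    IsPGroup.of_card (n := 1) (by rw [Nat.card_zpowers, hyo, pow_one])
  obtain ⟨Q, hQ⟩ := hyq.exists_le_sylow
  have hyQ : y ∈ (Q : Subgroup G) := hQ (Subgroup.mem_zpowers y)
  obtain ⟨z, hz, hz1, hzc⟩ := exists_central P hP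
  obtain ⟨i, hi⟩ := sylow_pow_eq_one P hz
  have hzy : z * y = y * z := commute_in_nilpotent (kernelOf_nilpotent hCN P hP)
    (le_kernelOf _ hz) hy (coprime_of_pow hp.out hq.out hpq hi
      (b := 1) (by rw [pow_one, ← hyo, pow_orderOf_eq_one]))
  have hc := sylow_commute hCN hpq P Q hz hyQ hz1 hy1 hzy
  exact ⟨Q, fun b hb => centralizer_le_kernelOf _ (Subgroup.mem_centralizer_iff.2 fun a ha =>
    hc a ha b hb), fun h => hy1 (Subgroup.mem_bot.1 (h ▸ hyQ))⟩

/-- The kernel depends only on the set of its Sylow subgroups. -/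
theorem kernelOf_eq [Finite G] (hCN : IsCNGroup G) (P : Sylow p G) (hP : (P : Subgroup G) ≠ ⊥)
    (Q : Sylow q G) (hQ : (Q : Subgroup G) ≠ ⊥)
    (hQK : (Q : Subgroup G) ≤ kernelOf (P : Subgroup G)) :
    kernelOf (Q : Subgroup G) = kernelOf (P : Subgroup G) := by
  have h1 := le_kernelOf_of_nilpotent Q (kernelOf_nilpotent hCN P hP) hQK
  exact le_antisymm
    (le_kernelOf_of_nilpotent P (kernelOf_nilpotent hCN Q hQ) ((le_kernelOf _).trans h1)) h1

omit hq in
/-- The kernel is a Hall subgroup. -/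
theorem kernelOf_hall [Finite G] (hCN : IsCNGroup G) (P : Sylow p G) (hP : (P : Subgroup G) ≠ ⊥) :
    (Nat.card (kernelOf (P : Subgroup G))).Coprime (kernelOf (P : Subgroup G)).index := by
  refine Nat.coprime_of_dvd' fun r hr hd hd' => ?_
  haveI := Fact.mk hr
  obtain ⟨R, hR, -⟩ := exists_sylow_le hCN P hP hd
  exact absurd (hd'.trans (Subgroup.index_dvd_of_le hR)) R.not_dvd_index

omit hq in
/-- The centralizer of a nontrivial element of the kernel: inside the kernel, or a `p`-group when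
the kernel is a `p`-group. -/
theorem centralizer_le_or [Finite G] (hCN : IsCNGroup G) (P : Sylow p G)
    (hP : (P : Subgroup G) ≠ ⊥) {x : G} (hx : x ∈ kernelOf (P : Subgroup G)) (hx1 : x ≠ 1) :
    Subgroup.centralizer ({x} : Set G) ≤ kernelOf (P : Subgroup G) ∨
      (kernelOf (P : Subgroup G) = P ∧ IsPGroup p (Subgroup.centralizer ({x} : Set G))) := by
  set K := kernelOf (P : Subgroup G) with hKdef
  have hK := kernelOf_nilpotent hCN P hP
  obtain ⟨r, hr, hrd⟩ := Nat.exists_prime_and_dvd (mt orderOf_eq_one_iff.1 hx1)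
  haveI := Fact.mk hr
  set y := x ^ (orderOf x / r) with hy
  have hyo : orderOf y = r := orderOf_pow_orderOf_div (orderOf_pos x).ne' hrd
  have hy1 : y ≠ 1 := fun h => hr.ne_one (by rw [← hyo, h, orderOf_one])
  have hyK : y ∈ K := pow_mem hx _
  have hle : Subgroup.centralizer ({x} : Set G) ≤ Subgroup.centralizer ({y} : Set G) := by
    intro c hc
    rw [Subgroup.mem_centralizer_singleton_iff] at hc ⊢
    exact ((show Commute c x from hc).pow_right _).eq
  by_cases hs : ∃ s : ℕ, s.Prime ∧ s ∣ Nat.card K ∧ s ≠ r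
  · obtain ⟨s, hs, hsd, hsr⟩ := hs
    haveI := Fact.mk hs
    obtain ⟨S, hSK, hS⟩ := exists_sylow_le hCN P hP hsd
    refine Or.inl (hle.trans ?_)
    have hSy : (S : Subgroup G) ≤ Subgroup.centralizer ({y} : Set G) := fun b hb => by
      obtain ⟨j, hj⟩ := sylow_pow_eq_one S hb
      exact Subgroup.mem_centralizer_singleton_iff.2 (commute_in_nilpotent hK (hSK hb) hyK
        (coprime_of_pow hs hr hsr hj (b := 1) (by rw [pow_one, ← hyo, pow_orderOf_eq_one])))
    rw [hKdef, ← kernelOf_eq hCN P hP S hS hSK]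
    exact le_kernelOf_of_nilpotent S (hCN y hy1) hSy
  · push Not at hs
    have hpr : p = r := hs p hp.out (by
      obtain ⟨n, hn, hn'⟩ := P.2.nontrivial_iff_card.1 ((Subgroup.nontrivial_iff_ne_bot _).2 hP)
      exact ((dvd_pow_self p hn.ne').trans (dvd_of_eq hn'.symm)).trans
        (Subgroup.card_dvd_of_le (le_kernelOf _)))
    subst hpr
    have hyP : y ∈ (P : Subgroup G) :=
      mem_sylow_of_nilpotent P hK (le_kernelOf _) hyK (k := 1) (by
        rw [pow_one, ← hyo, pow_orderOf_eq_one])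
    have hKP : K = P := by
      refine le_antisymm (fun g hg => ?_) (le_kernelOf _)
      have : IsPGroup p K := IsPGroup.of_card (Nat.eq_prime_pow_of_unique_prime_dvd
        Nat.card_pos.ne' fun {d} hd hdd => hs d hd hdd)
      obtain ⟨k, hk⟩ := this ⟨g, hg⟩
      exact mem_sylow_of_nilpotent P hK (le_kernelOf _) hg (by simpa using congrArg Subtype.val hk)
    refine Or.inr ⟨hKP, IsPGroup.of_card (n := _) (Nat.eq_prime_pow_of_unique_prime_dvd
      Nat.card_pos.ne' fun {d} hd hdd => ?_)⟩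
    by_contra hdp
    haveI := Fact.mk hd
    obtain ⟨⟨z, hz⟩, hzo⟩ := exists_prime_orderOf_dvd_card' d hdd
    rw [Subgroup.orderOf_mk] at hzo
    have hz1 : z ≠ 1 := fun h => hd.ne_one (by rw [← hzo, h, orderOf_one])
    obtain ⟨Q, hQ⟩ := (IsPGroup.of_card (p := d) (n := 1)
      (by rw [Nat.card_zpowers, hzo, pow_one]) : IsPGroup d (Subgroup.zpowers z)).exists_le_sylow
    have hc := sylow_commute hCN (Ne.symm hdp) P Q hyP (hQ (Subgroup.mem_zpowers z)) hy1 hz1
      (Subgroup.mem_centralizer_singleton_iff.1 (hle hz)).symm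
    have hzK : z ∈ K := centralizer_le_kernelOf _ (Subgroup.mem_centralizer_iff.2 fun a ha =>
      hc a ha z (hQ (Subgroup.mem_zpowers z)))
    exact hdp (hs d hd (by rw [← hzo]; exact Subgroup.orderOf_dvd_natCard _ hzK))

omit hq in
/-- A kernel which is not a `p`-group meets no other conjugate of itself. -/
theorem ti_of_not_pgroup [Finite G] (hCN : IsCNGroup G) (P : Sylow p G)
    (hP : (P : Subgroup G) ≠ ⊥) (hne : kernelOf (P : Subgroup G) ≠ P) {x g : G}
    (hx : x ∈ kernelOf (P : Subgroup G)) (hgx : g * x * g⁻¹ ∈ kernelOf (P : Subgroup G))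
    (hx1 : x ≠ 1) : g ∈ Subgroup.normalizer (kernelOf (P : Subgroup G) : Set G) := by
  set K := kernelOf (P : Subgroup G) with hKdef
  have hK := kernelOf_nilpotent hCN P hP
  obtain ⟨r, hr, hrd⟩ := Nat.exists_prime_and_dvd (mt orderOf_eq_one_iff.1 hx1)
  haveI := Fact.mk hr
  set y := x ^ (orderOf x / r) with hy
  have hyo : orderOf y = r := orderOf_pow_orderOf_div (orderOf_pos x).ne' hrd
  have hy1 : y ≠ 1 := fun h => hr.ne_one (by rw [← hyo, h, orderOf_one])
  have hyK : y ∈ K := pow_mem hx _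
  have hgy : g * y * g⁻¹ ∈ K := by rw [hy, ← conj_pow]; exact pow_mem hgx _
  have hgyo : orderOf (g * y * g⁻¹) = r := by
    rw [← hyo, ← MulAut.conj_apply, MulEquiv.orderOf_eq]
  -- another prime
  obtain ⟨s, hs, hsd, hsr⟩ : ∃ s : ℕ, s.Prime ∧ s ∣ Nat.card K ∧ s ≠ r := by
    by_contra hno
    push Not at hno
    have hpr : p = r := hno p hp.out (by
      obtain ⟨n, hn, hn'⟩ := P.2.nontrivial_iff_card.1 ((Subgroup.nontrivial_iff_ne_bot _).2 hP)
      exact ((dvd_pow_self p hn.ne').trans (dvd_of_eq hn'.symm)).trans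
        (Subgroup.card_dvd_of_le (le_kernelOf _)))
    subst hpr
    refine hne (le_antisymm (fun a ha => ?_) (le_kernelOf _))
    have : IsPGroup p K := IsPGroup.of_card (Nat.eq_prime_pow_of_unique_prime_dvd
      Nat.card_pos.ne' fun {d} hd hdd => hno d hd hdd)
    obtain ⟨k, hk⟩ := this ⟨a, ha⟩
    exact mem_sylow_of_nilpotent P hK (le_kernelOf _) ha (by simpa using congrArg Subtype.val hk)
  haveI := Fact.mk hs
  obtain ⟨S, hSK, hS⟩ := exists_sylow_le hCN P hP hsd
  have hKS : kernelOf (S : Subgroup G) = K := kernelOf_eq hCN P hP S hS hSK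
  have hcomm : ∀ w ∈ K, orderOf w = r → ∀ b ∈ (S : Subgroup G), b * w = w * b := by
    intro w hw hwo b hb
    obtain ⟨j, hj⟩ := sylow_pow_eq_one S hb
    exact commute_in_nilpotent hK (hSK hb) hw
      (coprime_of_pow hs hr hsr hj (b := 1) (by rw [pow_one, ← hwo, pow_orderOf_eq_one]))
  have hSy : (S : Subgroup G) ≤ Subgroup.centralizer ({y} : Set G) := fun b hb =>
    Subgroup.mem_centralizer_singleton_iff.2 (hcomm y hyK hyo b hb)
  have hCy : Subgroup.centralizer ({y} : Set G) ≤ K := by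
    rw [← hKS]; exact le_kernelOf_of_nilpotent S (hCN y hy1) hSy
  have hgS : ∀ b ∈ (S : Subgroup G), g⁻¹ * b * g ∈ (S : Subgroup G) := by
    intro b hb
    obtain ⟨j, hj⟩ := sylow_pow_eq_one S hb
    refine mem_sylow_of_nilpotent S hK hSK (hCy ?_) (k := j) ?_
    · have h := hcomm _ hgy hgyo b hb
      rw [Subgroup.mem_centralizer_singleton_iff]
      calc g⁻¹ * b * g * y = g⁻¹ * (b * (g * y * g⁻¹)) * g := by group
        _ = g⁻¹ * ((g * y * g⁻¹) * b) * g := by rw [h]
        _ = y * (g⁻¹ * b * g) := by group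
    · rw [show g⁻¹ * b * g = g⁻¹ * b * g⁻¹⁻¹ by group, conj_pow, hj]; group
  rw [← hKS]
  refine normalizer_le_normalizer_kernelOf _ ?_
  have hgN : g⁻¹ ∈ Subgroup.normalizer ((S : Subgroup G) : Set G) := by
    refine Subgroup.mem_normalizer_iff_map_conj_eq.2 (Subgroup.eq_of_le_of_card_ge ?_ ?_)
    · rintro _ ⟨b, hb, rfl⟩
      simpa using hgS b hb
    · rw [Subgroup.card_map_of_injective (MulAut.conj g⁻¹).injective]
  simpa using inv_mem hgN

end Cfsg.Agent.CNOdd
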