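import Cfsg.Prelude.Def_OddOrderLocal
import Cfsg.Agent.Lib.CNOdd.Kernel
import Cfsg.Agent.Lib.FrobCompl.Noncyclic
import Cfsg.Agent.Lib.FrobCompl.Center
import Cfsg.Agent.Lib.ZStar.Recognize
import Cfsg.Agent.Lib.PSolvable.Constrained
import Cfsg.Agent.S1473

/-!
# The structure of solvable CN-groups
-/

set_option autoImplicit false
set_option linter.style.haveILetI false

namespace Cfsg.Agent.CNOdd

open Cfsg CfsgLib

universe u

variable {G : Type u} [Group G] [Finite G]

/-- A nilpotent group acting fixed point freely has at most one involution. -/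
theorem involution_unique {A V : Subgroup G} [IsMulCommutative V] (hV : V ≠ ⊥)
    (hAV : A ≤ Subgroup.normalizer (V : Set G))
    (hfpf : ∀ e ∈ A, e ≠ 1 → V ⊓ Subgroup.centralizer {e} = ⊥) (hA : Group.IsNilpotent A)
    {s t : A} (hs : orderOf s = 2) (ht : orderOf t = 2) : s = t := by
  haveI := hA
  haveI := Fact.mk Nat.prime_two
  obtain ⟨T⟩ : Nonempty (Sylow 2 A) := inferInstance
  haveI : (T : Subgroup A).Normal := inferInstance
  have hmem : ∀ x : A, orderOf x = 2 → (x : G) ∈ (T : Subgroup A).map A.subtype := by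
    intro x hx
    have hz : IsPGroup 2 (Subgroup.zpowers x) :=
      IsPGroup.of_card (n := 1) (by rw [Nat.card_zpowers, hx, pow_one])
    exact ⟨x, (le_sup_left.trans (T.3 (hz.to_sup_of_normal_right T.2) le_sup_right).le)
      (Subgroup.mem_zpowers x), rfl⟩
  have h := (FrobCompl.sylow_structure hV hAV hfpf (T.2.map _) (Subgroup.map_subtype_le _)).2 rfl
    ⟨s, hmem s hs⟩ ⟨t, hmem t ht⟩ (by rw [Subgroup.orderOf_mk, Subgroup.orderOf_coe, hs])
    (by rw [Subgroup.orderOf_mk, Subgroup.orderOf_coe, ht])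
  exact Subtype.ext (congrArg Subtype.val h :)

/-- A nilpotent group acting fixed point freely with cyclic Sylow `2`-subgroups is cyclic. -/
theorem isCyclic_of_fpf {A V : Subgroup G} [IsMulCommutative V] (hV : V ≠ ⊥)
    (hAV : A ≤ Subgroup.normalizer (V : Set G))
    (hfpf : ∀ e ∈ A, e ≠ 1 → V ⊓ Subgroup.centralizer {e} = ⊥) (hA : Group.IsNilpotent A)
    (h2 : ∀ T : Sylow 2 A, IsCyclic T) : IsCyclic A := by
  haveI := hA
  haveI : IsZGroup A := by
    refine ⟨fun q hq T => ?_⟩
    haveI := Fact.mk hq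
    by_cases hq2 : q = 2
    · subst hq2
      exact h2 T
    haveI := (FrobCompl.sylow_structure hV hAV hfpf (T.2.map _) (Subgroup.map_subtype_le _)).1 hq2
    exact isCyclic_of_surjective ((T : Subgroup A).equivMapOfInjective _
      A.subtype_injective).symm.toMonoidHom (MulEquiv.surjective _)
  infer_instance

/-- A nilpotent group of odd order acting fixed point freely is cyclic. -/
theorem isCyclic_of_fpf_odd {A V : Subgroup G} [IsMulCommutative V] (hV : V ≠ ⊥)
    (hAV : A ≤ Subgroup.normalizer (V : Set G))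
    (hfpf : ∀ e ∈ A, e ≠ 1 → V ⊓ Subgroup.centralizer {e} = ⊥) (hA : Group.IsNilpotent A)
    (hodd : Odd (Nat.card A)) : IsCyclic A := by
  refine isCyclic_of_fpf hV hAV hfpf hA fun T => ?_
  haveI := Fact.mk Nat.prime_two
  have h1 : (T : Subgroup A) = ⊥ := by
    obtain ⟨n, hn⟩ := IsPGroup.iff_card.1 T.2
    rcases Nat.eq_zero_or_pos n with rfl | hn0
    · exact Subgroup.eq_bot_of_card_eq _ (by rw [hn, pow_zero])
    · exact absurd (even_iff_two_dvd.2 ((dvd_pow_self 2 hn0.ne').trans
        ((dvd_of_eq hn.symm).trans (Subgroup.card_subgroup_dvd_card _))))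
        (Nat.not_even_iff_odd.2 hodd)
  haveI : Subsingleton (T : Subgroup A) := by rw [h1]; infer_instance
  infer_instance

/-- The structure of a nilpotent group acting fixed point freely. -/
theorem cyclic_or_quaternion_of_fpf {A V : Subgroup G} [IsMulCommutative V] (hV : V ≠ ⊥)
    (hAV : A ≤ Subgroup.normalizer (V : Set G))
    (hfpf : ∀ e ∈ A, e ≠ 1 → V ⊓ Subgroup.centralizer {e} = ⊥) (hA : Group.IsNilpotent A) :
    IsCyclic A ∨ ∃ C Q : Subgroup G, C ⊔ Q = A ∧ (∀ a ∈ C, ∀ b ∈ Q, a * b = b * a) ∧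
      IsCyclic C ∧ Odd (Nat.card C) ∧ ∃ n : ℕ, Nonempty (↥Q ≃* QuaternionGroup (2 ^ n)) := by
  haveI := hA
  haveI := Fact.mk Nat.prime_two
  by_cases h2 : ∀ T : Sylow 2 A, IsCyclic T
  · exact Or.inl (isCyclic_of_fpf hV hAV hfpf hA h2)
  push Not at h2
  obtain ⟨T, hT⟩ := h2
  right
  haveI : (T : Subgroup A).Normal := inferInstance
  have hcop : (Nat.card (T : Subgroup A)).Coprime (T : Subgroup A).index := T.card_coprime_index
  obtain ⟨D, hD⟩ := Subgroup.exists_right_complement'_of_coprime hcop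
  have hDcard : Nat.card D = (T : Subgroup A).index := hD.symm.index_eq_card.symm
  have hodd : Odd (Nat.card D) := by
    rw [hDcard, ← Nat.not_even_iff_odd, even_iff_two_dvd]
    exact T.not_dvd_index
  have hCcard : Nat.card (D.map A.subtype) = Nat.card D :=
    Subgroup.card_map_of_injective A.subtype_injective
  have hCA : D.map A.subtype ≤ A := Subgroup.map_subtype_le _
  refine ⟨D.map A.subtype, (T : Subgroup A).map A.subtype, ?_, ?_,
    isCyclic_of_fpf_odd hV (hCA.trans hAV) (fun e he => hfpf e (hCA he))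
      (nilpotent_mono hCA hA) (hCcard ▸ hodd), hCcard ▸ hodd, ?_⟩
  · rw [← Subgroup.map_sup, sup_comm, hD.sup_eq_top, ← MonoidHom.range_eq_map,
      Subgroup.range_subtype]
  · rintro _ ⟨a, ha, rfl⟩ _ ⟨b, hb, rfl⟩
    refine congrArg Subtype.val (CfsgLib.Char.PiPart.commute_of_coprime ?_ : Commute a b).eq
    refine ((hDcard ▸ hcop : (Nat.card (T : Subgroup A)).Coprime (Nat.card D)).symm.coprime_dvd_left
      (Subgroup.orderOf_dvd_natCard D ha)).coprime_dvd_right (Subgroup.orderOf_dvd_natCard _ hb)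
  · rcases ZStar.cyclic_or_quaternion (T.2.map A.subtype)
      ((FrobCompl.sylow_structure hV hAV hfpf (T.2.map _) (Subgroup.map_subtype_le _)).2 rfl)
      with h | h
    · haveI := h
      exact absurd (isCyclic_of_surjective ((T : Subgroup A).equivMapOfInjective _
        A.subtype_injective).symm.toMonoidHom (MulEquiv.surjective _)) hT
    · exact h

/-- A CN-group with a normal Sylow subgroup. -/
theorem normal_sylow_frobenius (hCN : IsCNGroup G) (hnn : ¬ Group.IsNilpotent G) {p : ℕ}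
    [hp : Fact p.Prime] (P : Sylow p G) (hP : (P : Subgroup G) ≠ ⊥)
    (hPn : (P : Subgroup G).Normal) :
    Cfsg.fittingHall G ≠ ⊥ ∧ Cfsg.fittingHall G ≠ ⊤ ∧
      ∃ E : Subgroup G, Subgroup.IsComplement' (Cfsg.fittingHall G) E ∧
        Cfsg.IsFrobeniusComplement E ∧ Group.IsNilpotent E ∧ E ≠ ⊥ ∧
        ∀ e ∈ E, e ≠ 1 → Cfsg.fittingHall G ⊓ Subgroup.centralizer ({e} : Set G) = ⊥ := by
  set K := kernelOf (P : Subgroup G) with hK
  have hKn : K.Normal := by
    refine Subgroup.normalizer_eq_top_iff.1 (top_le_iff.1 ?_)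
    rw [← Subgroup.normalizer_eq_top_iff.2 hPn]
    exact normalizer_le_normalizer_kernelOf _
  haveI := hKn
  have hKnil := kernelOf_nilpotent hCN P hP
  have hfit : Cfsg.fittingHall G = K := by
    refine le_antisymm (sSup_le ?_) (le_sSup ⟨hKn, hKnil, kernelOf_hall hCN P hP⟩)
    rintro N ⟨hN, hNnil, hNcop⟩
    by_cases hd : p ∣ Nat.card N
    · refine le_kernelOf_of_nilpotent P hNnil ?_
      have h1 : ¬ p ∣ N.index := fun h =>
        hp.out.ne_one (Nat.eq_one_of_dvd_coprimes hNcop hd h)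
      rw [← Subgroup.relIndex_eq_one]
      obtain ⟨n, hn⟩ := IsPGroup.iff_card.1 P.2
      have hd1 : N.relIndex (P : Subgroup G) ∣ p ^ n := hn ▸ Subgroup.relIndex_dvd_card N _
      haveI := hN
      have hd2 : N.relIndex (P : Subgroup G) ∣ N.index :=
        Fitting.relIndex_dvd_index_of_normal_right N _
      exact Nat.eq_one_of_dvd_coprimes ((hp.out.coprime_iff_not_dvd.2 h1).pow_left n) hd1 hd2
    · intro a ha
      refine centralizer_le_kernelOf _ (Subgroup.mem_centralizer_iff.2 fun b hb => ?_)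
      haveI := hN
      haveI := hPn
      have hdis : Disjoint N (P : Subgroup G) := by
        rw [disjoint_iff_inf_le]
        intro x hx
        obtain ⟨k, hk⟩ := sylow_pow_eq_one P hx.2
        exact Subgroup.mem_bot.2 (orderOf_eq_one_iff.1 (Nat.eq_one_of_dvd_coprimes
          ((hp.out.coprime_iff_not_dvd.2 hd).pow_left k).symm
          (Subgroup.orderOf_dvd_natCard _ hx.1) (orderOf_dvd_of_pow_eq_one hk)))
      exact (Subgroup.commute_of_normal_of_disjoint _ _ hN hPn hdis a b ha hb).eq.symm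
  rw [hfit]
  have hK1 : K ≠ ⊥ := fun h => hP (le_bot_iff.1 (h ▸ le_kernelOf _))
  have hK2 : K ≠ ⊤ := fun h => hnn ((Group.isNilpotent_congr Subgroup.topEquiv).1
    (h ▸ hKnil : Group.IsNilpotent (⊤ : Subgroup G)))
  obtain ⟨E, hE⟩ := Subgroup.exists_right_complement'_of_coprime (kernelOf_hall hCN P hP)
  have hE1 : E ≠ ⊥ := fun h => hK2 (Subgroup.isComplement'_bot_right.1 (h ▸ hE))
  have hfpf : ∀ e ∈ E, e ≠ 1 → K ⊓ Subgroup.centralizer ({e} : Set G) = ⊥ := by
    intro e he he1
    rw [eq_bot_iff]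
    intro x hx
    by_contra hx1
    rw [Subgroup.mem_bot] at hx1
    have hex : e ∈ Subgroup.centralizer ({x} : Set G) := Subgroup.mem_centralizer_singleton_iff.2
      (Subgroup.mem_centralizer_singleton_iff.1 hx.2).symm
    refine he1 ?_
    have heK : e ∈ K := by
      rcases centralizer_le_or hCN P hP hx.1 hx1 with h | ⟨hKP, hC⟩
      · exact h hex
      · haveI := hPn
        have hz : IsPGroup p (Subgroup.zpowers e) := hC.to_le (Subgroup.zpowers_le.2 hex)
        rw [hK, hKP]
        exact (le_sup_left.trans (P.3 (hz.to_sup_of_normal_right P.2) le_sup_right).le)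
          (Subgroup.mem_zpowers e)
    have h := hE.disjoint.le_bot (Subgroup.mem_inf.2 ⟨heK, he⟩)
    exact Subgroup.mem_bot.1 h
  refine ⟨hK1, hK2, E, hE, FrobCompl.isFrobeniusComplement_of_fpf hE hK1 hE1
    (fun h hh h1 k hk e => ?_), ?_, hE1, hfpf⟩
  · have h2 : k ∈ K ⊓ Subgroup.centralizer ({h} : Set G) :=
      ⟨hk, Subgroup.mem_centralizer_singleton_iff.2 e⟩
    rwa [hfpf h hh h1, Subgroup.mem_bot] at h2
  · obtain ⟨V, hVc, hV, hEV, hVfpf⟩ := FrobCompl.exists_abelian_module hE hK1 hE1 hfpf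
    haveI := hVc
    obtain ⟨⟨z, hz⟩, hz1⟩ := Subgroup.ne_bot_iff_exists_ne_one.1
      (FrobCompl.center_ne_bot hE1 hV hEV hVfpf)
    refine nilpotent_mono (fun a ha => ?_) (hCN (z : G) fun h => hz1 (Subtype.ext (Subtype.ext h)))
    exact Subgroup.mem_centralizer_singleton_iff.2
      (congrArg Subtype.val (Subgroup.mem_center_iff.1 hz ⟨a, ha⟩))

/-- An element of order prime to the index of a normal subgroup lies in it. -/
theorem mem_of_coprime_index {H : Type*} [Group H] [Finite H] (N : Subgroup H) [N.Normal] {x : H}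
    (h : (orderOf x).Coprime N.index) : x ∈ N := by
  rw [← QuotientGroup.eq_one_iff]
  refine orderOf_eq_one_iff.1 (Nat.eq_one_of_dvd_coprimes h
    (orderOf_map_dvd (QuotientGroup.mk' N) x) ?_)
  rw [Subgroup.index_eq_card]
  exact orderOf_dvd_natCard _

theorem three_step (hsol : Group.IsSolvable G) (hCN : IsCNGroup G) {p : ℕ} [hp : Fact p.Prime]
    (hR : Cfsg.pCore p G ≠ ⊥) (P : Sylow p G) (hPn : ¬ (P : Subgroup G).Normal) :
    Cfsg.IsThreeStepGroup p G := by
  classical
  haveI := hsol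
  set R := Cfsg.pCore p G with hRdef
  haveI hRn : R.Normal := Fitting.pCore_normal p
  have hRp : IsPGroup p R := Fitting.pCore_isPGroup p
  have hRP : R ≤ (P : Subgroup G) := by
    rw [hRdef, Fitting.pCore_eq_iInf_sylow]; exact iInf_le _ P
  have hP : (P : Subgroup G) ≠ ⊥ := fun h => hR (le_bot_iff.1 (h ▸ hRP))
  have hiso : ∀ a : G, (orderOf a).Coprime p → ∀ x ∈ R, x ≠ 1 → a * x = x * a → a = 1 := by
    intro a hap x hx hx1 hax
    by_contra ha1
    obtain ⟨q, hq, hqd⟩ := Nat.exists_prime_and_dvd (mt orderOf_eq_one_iff.1 ha1)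
    haveI := Fact.mk hq
    have hqp : p ≠ q := fun h => hq.ne_one (Nat.eq_one_of_dvd_coprimes hap hqd (h ▸ dvd_rfl))
    set y := a ^ (orderOf a / q) with hy
    have hyo : orderOf y = q := orderOf_pow_orderOf_div (orderOf_pos a).ne' hqd
    have hy1 : y ≠ 1 := fun h => hq.ne_one (by rw [← hyo, h, orderOf_one])
    obtain ⟨Q, hQ⟩ := (IsPGroup.of_card (p := q) (n := 1)
      (by rw [Nat.card_zpowers, hyo, pow_one]) : IsPGroup q (Subgroup.zpowers y)).exists_le_sylow
    have hyQ := hQ (Subgroup.mem_zpowers y)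
    have hc := sylow_commute hCN hqp P Q (hRP hx) hyQ hx1 hy1
      ((show Commute a x from hax).pow_left _).symm.eq
    have hK : kernelOf (P : Subgroup G) ≠ P := by
      intro h
      have hyP : y ∈ (P : Subgroup G) := h ▸ centralizer_le_kernelOf _
        (Subgroup.mem_centralizer_iff.2 fun b hb => hc b hb y hyQ)
      obtain ⟨k, hk⟩ := sylow_pow_eq_one P hyP
      exact hy1 (orderOf_eq_one_iff.1 (Nat.eq_one_of_dvd_coprimes
        (((Nat.coprime_primes hp.out hq).2 hqp).pow_left k)
        (orderOf_dvd_of_pow_eq_one hk) (dvd_of_eq hyo)))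
    apply hPn
    constructor
    intro b hb g
    have hgN := ti_of_not_pgroup hCN P hP hK (le_kernelOf _ (hRP hx))
      (le_kernelOf _ (hRP (hRn.conj_mem x hx g))) hx1
    obtain ⟨k, hk⟩ := sylow_pow_eq_one P hb
    exact mem_sylow_of_nilpotent P (kernelOf_nilpotent hCN P hP) (le_kernelOf _)
      ((Subgroup.mem_normalizer_iff.1 hgN b).1 (le_kernelOf _ hb)) (k := k)
      (by rw [conj_pow, hk]; group)
  -- a Hall `p'`-subgroup
  obtain ⟨n, hn⟩ := IsPGroup.iff_card.1 P.2
  have hcopP : (P : Subgroup G).index.Coprime p :=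
    (hp.out.coprime_iff_not_dvd.2 P.not_dvd_index).symm
  obtain ⟨L, hL⟩ := Hall.exists_hall (G := G) (m := (P : Subgroup G).index) (n := p ^ n)
    (by rw [← hn, mul_comm, Subgroup.card_mul_index]) (hcopP.pow_right n)
  have hLp : ∀ a ∈ L, (orderOf a).Coprime p := fun a ha =>
    (hL ▸ hcopP : (Nat.card L).Coprime p).coprime_dvd_left (Subgroup.orderOf_dvd_natCard L ha)
  have hfpf : ∀ a ∈ L, a ≠ 1 → R ⊓ Subgroup.centralizer ({a} : Set G) = ⊥ := by
    intro a ha ha1
    rw [eq_bot_iff]
    intro x hx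
    by_contra hx1
    rw [Subgroup.mem_bot] at hx1
    exact ha1 (hiso a (hLp a ha) x hx.1 hx1 (Subgroup.mem_centralizer_singleton_iff.1 hx.2).symm)
  haveI : Nontrivial R := (Subgroup.nontrivial_iff_ne_bot R).2 hR
  set V := (Subgroup.center R).map R.subtype with hV
  haveI hVn : V.Normal := PSolvable.normal_map_of_characteristic _ _
  haveI hVc : IsMulCommutative V := by
    refine ⟨⟨?_⟩⟩
    rintro ⟨_, a, ha, rfl⟩ ⟨_, b, hb, rfl⟩
    exact Subtype.ext (by simpa using congrArg R.subtype (Subgroup.mem_center_iff.1 hb a))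
  have hVb : V ≠ ⊥ := by
    rw [hV, ne_eq, Subgroup.map_eq_bot_iff_of_injective _ R.subtype_injective]
    haveI := hRp.center_nontrivial
    exact (Subgroup.nontrivial_iff_ne_bot _).1 inferInstance
  have hLV : L ≤ Subgroup.normalizer (V : Set G) := Subgroup.le_normalizer_of_normal
  have hVfpf : ∀ a ∈ L, a ≠ 1 → V ⊓ Subgroup.centralizer ({a} : Set G) = ⊥ := fun a ha ha1 =>
    le_bot_iff.1 ((inf_le_inf_right _ (Subgroup.map_subtype_le _)).trans (hfpf a ha ha1).le)
  have hL1 : L ≠ ⊥ := by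
    intro h
    apply hPn
    rw [h, Subgroup.card_bot] at hL
    rw [Subgroup.index_eq_one.1 hL.symm]
    infer_instance
  have hLnil : Group.IsNilpotent L := by
    obtain ⟨⟨z, hz⟩, hz1⟩ := Subgroup.ne_bot_iff_exists_ne_one.1
      (FrobCompl.center_ne_bot hL1 hVb hLV hVfpf)
    refine nilpotent_mono (fun a ha => ?_) (hCN (z : G) fun h => hz1 (Subtype.ext (Subtype.ext h)))
    exact Subgroup.mem_centralizer_singleton_iff.2
      (congrArg Subtype.val (Subgroup.mem_center_iff.1 hz ⟨a, ha⟩))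
  -- the quotient
  have hCNq : IsCNGroup (G ⧸ R) := Cfsg.Agent.S1473.result hCN R inferInstance
  set π := QuotientGroup.mk' R with hπ
  have hπs : Function.Surjective π := QuotientGroup.mk'_surjective R
  have hker : π.ker = R := QuotientGroup.ker_mk' R
  set Lb := L.map π with hLb
  have hLR : ∀ a ∈ L, a ∈ R → a = 1 := by
    intro a ha har
    obtain ⟨k, hk⟩ := sylow_pow_eq_one P (hRP har)
    exact orderOf_eq_one_iff.1 (Nat.eq_one_of_dvd_coprimes ((hLp a ha).pow_right k) dvd_rfl
      (orderOf_dvd_of_pow_eq_one hk))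
  let f : L →* G ⧸ R := π.comp L.subtype
  have hf : Function.Injective f := by
    rw [injective_iff_map_eq_one]
    intro a ha
    exact Subtype.ext (hLR a a.2 ((QuotientGroup.eq_one_iff (a : G)).1 ha))
  have hLbf : Lb = f.range := by
    rw [hLb, MonoidHom.range_comp, Subgroup.range_subtype]
  have hLbcard : Nat.card Lb = (P : Subgroup G).index := by
    rw [hLbf, ← hL]
    exact (Nat.card_congr (MonoidHom.ofInjective hf).toEquiv).symm
  obtain ⟨m, hm⟩ : ∃ m, Lb.index = p ^ m := by
    have h1 : Lb.index ∣ p ^ n := by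
      have h2 := Lb.card_mul_index
      have h3 : Nat.card (G ⧸ R) ∣ Nat.card G := R.card_quotient_dvd_card
      rw [← h2, hLbcard, ← (P : Subgroup G).card_mul_index, hn, mul_comm (p ^ n)] at h3
      exact Nat.dvd_of_mul_dvd_mul_left (Nat.pos_of_ne_zero Subgroup.index_ne_zero_of_finite) h3
    obtain ⟨m, -, hm⟩ := (Nat.dvd_prime_pow hp.out).1 h1
    exact ⟨m, hm⟩
  set N := Cfsg.fittingSubgroup (G ⧸ R) with hN
  haveI hNn : N.Normal := Fitting.fittingSubgroup_normal
  haveI hNnil : Group.IsNilpotent N := Fitting.fittingSubgroup_isNilpotent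
  have hNp : ¬ p ∣ Nat.card N := by
    intro hd
    obtain ⟨T⟩ : Nonempty (Sylow p N) := inferInstance
    haveI : (T : Subgroup N).Normal := inferInstance
    haveI := T.characteristic_of_normal inferInstance
    set T' := (T : Subgroup N).map N.subtype with hT'
    haveI : T'.Normal := PSolvable.normal_map_of_characteristic _ _
    have h1 : T'.comap π ≤ R := Fitting.le_pCore inferInstance
      ((T.2.map _).comap_of_ker_isPGroup π (hker.symm ▸ hRp))
    have h2 : T' = ⊥ := by
      rw [← Subgroup.map_comap_eq_self_of_surjective hπs T', Subgroup.map_eq_bot_iff, hker]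
      exact h1
    rw [hT', Subgroup.map_eq_bot_iff_of_injective _ N.subtype_injective] at h2
    refine T.not_dvd_index ?_
    rwa [h2, Subgroup.index_bot]
  have hNL : N ≤ Lb := by
    rw [← Subgroup.relIndex_eq_one]
    refine Nat.eq_one_of_dvd_coprimes ((hp.out.coprime_iff_not_dvd.2 hNp).pow_left m)
      (hm ▸ Fitting.relIndex_dvd_index_of_normal_right Lb N) (Subgroup.relIndex_dvd_card Lb N)
  have hCN' : Subgroup.centralizer (N : Set (G ⧸ R)) ≤ N :=
    PSolvable.centralizer_fittingSubgroup_le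
  have hLbnil : Group.IsNilpotent Lb := by
    haveI := hLnil
    rw [hLbf]
    exact (Group.isNilpotent_congr (MonoidHom.ofInjective hf)).1 inferInstance
  have hnotnil : ¬ Group.IsNilpotent (G ⧸ R) := by
    intro h
    haveI := h
    apply hPn
    haveI : ((P.mapSurjective hπs : Sylow p (G ⧸ R)) : Subgroup (G ⧸ R)).Normal := inferInstance
    have h1 : ((P : Subgroup G).map π).comap π = P :=
      Subgroup.comap_map_eq_self (hker.symm ▸ hRP)
    rw [← h1]
    exact Subgroup.Normal.comap (by simpa using this) π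
  -- `L` has odd order
  have hodd : Odd (Nat.card L) := by
    rw [← Nat.not_even_iff_odd, even_iff_two_dvd]
    intro h2
    haveI := Fact.mk Nat.prime_two
    obtain ⟨t, ht⟩ := exists_prime_orderOf_dvd_card' (G := L) 2 h2
    have huniq : ∀ c ∈ Lb, orderOf c = 2 → c = f t := by
      intro c hc hco
      rw [hLbf] at hc
      obtain ⟨s, rfl⟩ := hc
      rw [orderOf_injective f hf] at hco
      rw [involution_unique hVb hLV hVfpf hLnil hco ht]
    have hft : f t ∈ Lb := hLbf ▸ ⟨t, rfl⟩
    have hfto : orderOf (f t) = 2 := by rw [orderOf_injective f hf, ht]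
    have htN : f t ∈ N := by
      by_contra htN
      refine htN (hCN' (Subgroup.mem_centralizer_iff.2 fun a ha => ?_))
      by_cases h2N : 2 ∣ Nat.card N
      · obtain ⟨⟨c, hc⟩, hco⟩ := exists_prime_orderOf_dvd_card' (G := N) 2 h2N
        rw [Subgroup.orderOf_mk] at hco
        exact absurd (huniq c (hNL hc) hco ▸ hc) htN
      · exact commute_in_nilpotent hLbnil (hNL ha) hft (((Nat.prime_two.coprime_iff_not_dvd.2
          h2N).symm.coprime_dvd_left (Subgroup.orderOf_dvd_natCard N ha)).coprime_dvd_right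
            (dvd_of_eq hfto))
    apply hnotnil
    have htop : Subgroup.centralizer ({f t} : Set (G ⧸ R)) = ⊤ := by
      refine eq_top_iff.2 fun g _ => Subgroup.mem_centralizer_singleton_iff.2 ?_
      have h := huniq (g * f t * g⁻¹) (hNL (hNn.conj_mem _ htN g))
        (by rw [← MulAut.conj_apply, MulEquiv.orderOf_eq, hfto])
      exact mul_inv_eq_iff_eq_mul.1 h
    have := hCNq (f t) fun h => by rw [h, orderOf_one] at hfto; omega
    rw [htop] at this
    exact (Group.isNilpotent_congr Subgroup.topEquiv).1 this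
  haveI hLcyc : IsCyclic L := isCyclic_of_fpf_odd hVb hLV hVfpf hLnil hodd
  have hLbcomm : ∀ a ∈ Lb, ∀ b ∈ Lb, a * b = b * a := by
    rw [hLbf]
    rintro _ ⟨a, rfl⟩ _ ⟨b, rfl⟩
    haveI : IsMulCommutative L := IsCyclic.isMulCommutative
    rw [← map_mul, ← map_mul, mul_comm']
  have hLN : Lb = N := le_antisymm
    (fun a ha => hCN' (Subgroup.mem_centralizer_iff.2 fun b hb => hLbcomm b (hNL hb) a ha)) hNL
  have hRL : R ⊔ L = N.comap π := by
    rw [← hLN, hLb, Subgroup.comap_map_eq, hker, sup_comm]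
  refine ⟨hR, L, hL1, hLcyc, hodd, hL ▸ hcopP, ?_, ?_, ⟨m, ?_⟩, hfpf, ?_⟩
  · rw [← hRdef, hRL]
    exact hNn.comap π
  · rw [← hRdef, hRL]
    intro h
    have hNtop : N = ⊤ := by
      rw [← Subgroup.map_comap_eq_self_of_surjective hπs N, h,
        Subgroup.map_top_of_surjective π hπs]
    refine hnotnil ((Group.isNilpotent_congr Subgroup.topEquiv).1 ?_)
    exact hNtop ▸ hNnil
  · rw [← hRdef, hRL, Subgroup.index_comap_of_surjective N hπs, ← hLN, hm]
  · intro x hx a ha ha1 hxa
    apply hx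
    rw [← hRdef] at hxa ⊢
    rw [hRL, Subgroup.mem_comap]
    have hax : π x * π a = π a * π x := by
      have h : π (x * a * x⁻¹ * a⁻¹) = 1 := (QuotientGroup.eq_one_iff _).2 hxa
      simp only [map_mul, map_inv] at h
      rwa [mul_inv_eq_one, mul_inv_eq_iff_eq_mul] at h
    have ha' : π a ≠ 1 := fun h => ha1 (hLR a ha ((QuotientGroup.eq_one_iff a).1 h))
    have hC : Group.IsNilpotent (Subgroup.centralizer ({π a} : Set (G ⧸ R))) := hCNq _ ha'
    obtain ⟨u, v, e, hu, hv, ⟨k, hk⟩, hvc⟩ := exists_parts (π x) p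
    rw [e]
    have haLb : π a ∈ Lb := ⟨a, ha, rfl⟩
    refine mul_mem (hCN' (Subgroup.mem_centralizer_iff.2 fun b hb => ?_))
      (mem_of_coprime_index N (by rw [← hLN, hm]; exact hvc.pow_right m))
    refine commute_in_nilpotent hC
      (Subgroup.mem_centralizer_singleton_iff.2 (hLbcomm b (hNL hb) _ haLb))
      ((Subgroup.zpowers_le.2 (Subgroup.mem_centralizer_singleton_iff.2 hax)) hu) ?_
    exact (((hp.out.coprime_iff_not_dvd.2 hNp).pow_left k).symm.coprime_dvd_left
      (Subgroup.orderOf_dvd_natCard N hb)).coprime_dvd_right (orderOf_dvd_of_pow_eq_one hk)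

end Cfsg.Agent.CNOdd
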