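import Cfsg.Agent.Lib.CNOdd.Kernel
import Cfsg.Agent.S0658
import Cfsg.Agent.S1464
import Cfsg.Agent.Lib.PSolvable.Constrained
import Cfsg.Agent.Lib.FrobCompl.Noncyclic
import Cfsg.Agent.Lib.Transfer.Focal

/-!
# Kernels of a simple CN-group of odd order are TI subgroups

If the kernel of a Sylow `p`-subgroup is a `p`-group, the normaliser `M` of `Z(J(P))` controls
fusion, so `P` lies in `M'`; but in the solvable group `M` this forces `P` to be normal.
-/

set_option autoImplicit false
set_option linter.style.haveILetI false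

namespace Cfsg.Agent.CNOdd

open Cfsg CfsgLib
open scoped commutatorElement

universe u

variable {G : Type u} [Group G] [Finite G]

/-- In a solvable group of odd order in which `p`-elements have `p`-groups as centralizers and
`O_p ≠ 1`, a Sylow `p`-subgroup inside the derived group is normal. -/
theorem normal_of_le_commutator [Group.IsSolvable G] (hodd : Odd (Nat.card G)) {p : ℕ}
    [hp : Fact p.Prime] (hiso : ∀ x : G, x ≠ 1 → IsPGroup p (Subgroup.zpowers x) →
      IsPGroup p (Subgroup.centralizer ({x} : Set G)))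
    (hR : Cfsg.pCore p G ≠ ⊥) (P : Sylow p G) (hP : (P : Subgroup G) ≤ commutator G) :
    (P : Subgroup G).Normal := by
  classical
  set R := Cfsg.pCore p G with hRdef
  haveI hRn : R.Normal := Fitting.pCore_normal p
  have hRp : IsPGroup p R := Fitting.pCore_isPGroup p
  set π := QuotientGroup.mk' R with hπ
  have hπs : Function.Surjective π := QuotientGroup.mk'_surjective R
  set F := Cfsg.fittingSubgroup (G ⧸ R) with hF
  haveI hFn : F.Normal := Fitting.fittingSubgroup_normal
  haveI hFnil : Group.IsNilpotent F := Fitting.fittingSubgroup_isNilpotent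
  -- an abelian normal `p`-subgroup
  haveI : Nontrivial R := (Subgroup.nontrivial_iff_ne_bot R).2 hR
  set V := (Subgroup.center R).map R.subtype with hV
  haveI hVn : V.Normal := PSolvable.normal_map_of_characteristic _ _
  haveI hVc : IsMulCommutative V := by
    refine ⟨⟨?_⟩⟩
    rintro ⟨_, a, ha, rfl⟩ ⟨_, b, hb, rfl⟩
    exact Subtype.ext (by simpa using congrArg R.subtype (Subgroup.mem_center_iff.1 hb a))
  have hVb : V ≠ ⊥ := by
    rw [hV, ne_eq, Subgroup.map_eq_bot_iff_of_injective _ R.subtype_injective]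
    haveI := hRp.center_nontrivial
    exact (Subgroup.nontrivial_iff_ne_bot _).1 inferInstance
  -- `p` does not divide the order of the Fitting subgroup of the quotient
  have hbot : ∀ T : Subgroup (G ⧸ R), T.Normal → IsPGroup p T → T = ⊥ := by
    intro T hT hTp
    haveI := hT
    have hk : IsPGroup p π.ker := by rw [hπ, QuotientGroup.ker_mk']; exact hRp
    have h1 : T.comap π ≤ R := Fitting.le_pCore (hT.comap π) (hTp.comap_of_ker_isPGroup π hk)
    rw [← Subgroup.map_comap_eq_self_of_surjective hπs T, Subgroup.map_eq_bot_iff, hπ,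
      QuotientGroup.ker_mk']
    exact h1
  have hFp : ∀ T : Sylow p F, (T : Subgroup F) = ⊥ := fun T => by
    haveI : (T : Subgroup F).Normal := inferInstance
    haveI := T.characteristic_of_normal inferInstance
    have := hbot _ (PSolvable.normal_map_of_characteristic F (T : Subgroup F)) (T.2.map _)
    rwa [Subgroup.map_eq_bot_iff_of_injective _ F.subtype_injective] at this
  -- the Fitting subgroup of the quotient is cyclic
  haveI : IsZGroup F := by
    refine ⟨fun q hq T => ?_⟩
    haveI := Fact.mk hq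
    by_cases hqp : q = p
    · subst hqp
      have hbotT := hFp T
      haveI : Subsingleton (T : Subgroup F) := by rw [hbotT]; infer_instance
      infer_instance
    set Q := (T : Subgroup F).map F.subtype with hQ
    have hQq : IsPGroup q Q := T.2.map _
    let f : Q.comap π →* Q := π.subgroupComap Q
    have hf : Function.Surjective f := by
      rintro ⟨y, hy⟩
      obtain ⟨x, rfl⟩ := hπs y
      exact ⟨⟨x, hy⟩, rfl⟩
    obtain ⟨S⟩ : Nonempty (Sylow q (Q.comap π)) := inferInstance
    have hSf : (S : Subgroup (Q.comap π)).map f = ⊤ := by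
      have h2 : ((S.mapSurjective hf : Sylow q Q) : Subgroup Q) = ⊤ :=
        ((S.mapSurjective hf).3 (IsPGroup.to_subgroup hQq ⊤) le_top).symm
      simpa using h2
    set S' := (S : Subgroup (Q.comap π)).map (Q.comap π).subtype with hS'
    have hS'q : IsPGroup q S' := S.2.map _
    have hq2 : q ≠ 2 → IsCyclic S' := (FrobCompl.sylow_structure hVb
      (Subgroup.le_normalizer_of_normal) (fun e he he1 => by
        by_contra hne
        obtain ⟨⟨v, hv⟩, hv1⟩ := Subgroup.ne_bot_iff_exists_ne_one.1 hne
        have hv1' : v ≠ 1 := fun h => hv1 (Subtype.ext h)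
        have hvp : IsPGroup p (Subgroup.zpowers v) :=
          hRp.to_le (Subgroup.zpowers_le.2 ((Subgroup.map_subtype_le _) hv.1))
        have hec : e ∈ Subgroup.centralizer ({v} : Set G) := Subgroup.mem_centralizer_singleton_iff.2
          (Subgroup.mem_centralizer_singleton_iff.1 hv.2).symm
        obtain ⟨i, hi⟩ := hiso v hv1' hvp ⟨e, hec⟩
        obtain ⟨j, hj⟩ := hS'q ⟨e, he⟩
        have hi' : e ^ p ^ i = 1 := by simpa using congrArg Subtype.val hi
        have hj' : e ^ q ^ j = 1 := by simpa using congrArg Subtype.val hj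
        exact he1 (orderOf_eq_one_iff.1 (Nat.eq_one_of_dvd_coprimes
          (((((Nat.coprime_primes hp.out hq).2 (Ne.symm hqp)).pow_left i).pow_right j))
          (orderOf_dvd_of_pow_eq_one hi') (orderOf_dvd_of_pow_eq_one hj'))))
      hS'q le_rfl).1
    by_cases hS1 : (T : Subgroup F) = ⊥
    · haveI : Subsingleton (T : Subgroup F) := by rw [hS1]; infer_instance
      infer_instance
    have hq_odd : q ≠ 2 := by
      rintro rfl
      obtain ⟨n, hn, hn'⟩ := T.2.nontrivial_iff_card.1 ((Subgroup.nontrivial_iff_ne_bot _).2 hS1)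
      have h2 : 2 ∣ Nat.card G := ((dvd_pow_self 2 hn.ne').trans (dvd_of_eq hn'.symm)).trans
        (((Subgroup.card_subgroup_dvd_card _).trans (Subgroup.card_subgroup_dvd_card F)).trans
          R.card_quotient_dvd_card)
      exact (Nat.not_odd_iff_even.2 (even_iff_two_dvd.2 h2)) hodd
    haveI := hq2 hq_odd
    haveI : IsCyclic (S : Subgroup (Q.comap π)) :=
      isCyclic_of_surjective ((S : Subgroup (Q.comap π)).equivMapOfInjective _
        (Q.comap π).subtype_injective).symm.toMonoidHom (MulEquiv.surjective _)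
    haveI : IsCyclic Q := by
      refine isCyclic_of_surjective (f.comp (S : Subgroup (Q.comap π)).subtype) fun y => ?_
      obtain ⟨x, hx, e⟩ := hSf.symm ▸ Subgroup.mem_top y
      exact ⟨⟨x, hx⟩, e⟩
    exact isCyclic_of_surjective ((T : Subgroup F).equivMapOfInjective _
      F.subtype_injective).symm.toMonoidHom (MulEquiv.surjective _)
  haveI : IsCyclic F := inferInstance
  -- the derived group of the quotient lies in it
  have hcomm : commutator (G ⧸ R) ≤ F := by
    refine le_trans (fun x hx => ?_) (PSolvable.centralizer_fittingSubgroup_le (G := G ⧸ R))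
    have hker : commutator (G ⧸ R) ≤ (MulAut.conjNormal (H := F)).ker := by
      rw [commutator_def, Subgroup.commutator_le]
      intro a _ b _
      rw [MonoidHom.mem_ker, map_commutatorElement, commutatorElement_eq_one_iff_mul_comm]
      exact (IsCyclic.mulAutMulEquiv F).injective (by rw [map_mul, map_mul]; exact mul_comm _ _)
    rw [Subgroup.mem_centralizer_iff]
    intro y hy
    have h := congrArg Subtype.val (DFunLike.congr_fun (MonoidHom.mem_ker.1 (hker hx))
      (⟨y, hy⟩ : F))
    exact (mul_inv_eq_iff_eq_mul.1 (show x * y * x⁻¹ = y from h)).symm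
  have hPR : (P : Subgroup G) ≤ R := by
    have h1 : (P : Subgroup G).map π ≤ F :=
      (Subgroup.map_mono hP).trans ((Subgroup.map_commutator _ _ π).le.trans
        ((Subgroup.commutator_mono le_top le_top).trans hcomm))
    obtain ⟨T, hT⟩ := ((P.2.map π).comap_of_injective F.subtype
      F.subtype_injective).exists_le_sylow
    rw [hFp T, le_bot_iff] at hT
    have h2 : (P : Subgroup G).map π = ⊥ := by
      rw [eq_bot_iff]
      intro y hy
      have : (⟨y, h1 hy⟩ : F) ∈ ((P : Subgroup G).map π).comap F.subtype := hy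
      rw [hT, Subgroup.mem_bot] at this
      exact Subgroup.mem_bot.2 (congrArg Subtype.val this)
    rwa [Subgroup.map_eq_bot_iff, hπ, QuotientGroup.ker_mk'] at h2
  rw [P.3 hRp hPR] at hRn
  exact hRn

section Simple

variable (hodd : Odd (Nat.card G)) [IsSimpleGroup G] (hnc : ¬ IsMulCommutative G)
  (hsolv : ∀ H : Subgroup G, H ≠ ⊤ → Group.IsSolvable H) (hCN : IsCNGroup G)
variable {p : ℕ} [hp : Fact p.Prime] (P : Sylow p G) (hP : (P : Subgroup G) ≠ ⊥)

include hnc in
theorem commutator_eq_top : commutator G = ⊤ := by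
  rcases (inferInstance : (commutator G).Normal).eq_bot_or_eq_top with h | h
  · exfalso
    refine hnc ⟨⟨fun a b => ?_⟩⟩
    have : ⁅a, b⁆ ∈ commutator G :=
      Subgroup.commutator_mem_commutator (Subgroup.mem_top a) (Subgroup.mem_top b)
    rw [h, Subgroup.mem_bot, commutatorElement_eq_one_iff_mul_comm] at this
    exact this
  · exact h

include hnc hsolv in
theorem ne_top_of_solvable (H : Subgroup G) [Group.IsSolvable H] : H ≠ ⊤ := by
  rintro rfl
  haveI : Group.IsSolvable G :=
    Group.isSolvable_of_surjective (f := (⊤ : Subgroup G).subtype) fun g => ⟨⟨g, trivial⟩, rfl⟩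
  haveI : Nontrivial G := IsSimpleGroup.toNontrivial
  exact (IsSolvable.commutator_lt_top_of_nontrivial (G := G)).ne (commutator_eq_top hnc)

omit [Finite G] in
theorem normalizer_ne_top {H : Subgroup G} (h1 : H ≠ ⊥) (h2 : H ≠ ⊤) :
    Subgroup.normalizer (H : Set G) ≠ ⊤ := by
  intro h
  rcases (Subgroup.normalizer_eq_top_iff.1 h).eq_bot_or_eq_top with h' | h'
  · exact h1 h'
  · exact h2 h'

include hodd hnc hsolv hCN hP in
theorem pgroup_case (hK : kernelOf (P : Subgroup G) = P) {x g : G}
    (hx : x ∈ (P : Subgroup G)) (hgx : g * x * g⁻¹ ∈ (P : Subgroup G)) (hx1 : x ≠ 1) :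
    g ∈ Subgroup.normalizer ((P : Subgroup G) : Set G) := by
  classical
  have hpG : p ∣ Nat.card G := by
    obtain ⟨n, hn, hn'⟩ := P.2.nontrivial_iff_card.1 ((Subgroup.nontrivial_iff_ne_bot _).2 hP)
    exact ((dvd_pow_self p hn.ne').trans (dvd_of_eq hn'.symm)).trans
      (Subgroup.card_subgroup_dvd_card _)
  have hp2 : p ≠ 2 := by
    rintro rfl
    exact (Nat.not_odd_iff_even.2 (even_iff_two_dvd.2 hpG)) hodd
  -- centralisers of `p`-elements are `p`-groups
  have hiso : ∀ y : G, y ≠ 1 → IsPGroup p (Subgroup.zpowers y) →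
      IsPGroup p (Subgroup.centralizer ({y} : Set G)) := by
    intro y hy1 hy
    obtain ⟨T, hT⟩ := hy.exists_le_sylow
    obtain ⟨a, ha⟩ := MulAction.exists_smul_eq G T P
    have hzP : a * y * a⁻¹ ∈ (P : Subgroup G) := by
      rw [← ha]
      exact ⟨y, hT (Subgroup.mem_zpowers y), rfl⟩
    have hz1 : a * y * a⁻¹ ≠ 1 := fun h => hy1 (conj_eq_one_iff.1 h)
    have h1 : IsPGroup p (Subgroup.centralizer ({a * y * a⁻¹} : Set G)) := by
      rcases centralizer_le_or hCN P hP (le_kernelOf _ hzP) hz1 with h | ⟨-, h⟩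
      · rw [hK] at h; exact P.2.to_le h
      · exact h
    refine (h1.comap_of_injective (MulAut.conj a).toMonoidHom (MulAut.conj a).injective).to_le ?_
    intro c hc
    rw [Subgroup.mem_centralizer_singleton_iff] at hc
    show a * c * a⁻¹ ∈ Subgroup.centralizer ({a * y * a⁻¹} : Set G)
    rw [Subgroup.mem_centralizer_singleton_iff]
    calc a * c * a⁻¹ * (a * y * a⁻¹) = a * (c * y) * a⁻¹ := by group
      _ = a * (y * c) * a⁻¹ := by rw [hc]
      _ = a * y * a⁻¹ * (a * c * a⁻¹) := by group
  have hproper : ∀ Q : Subgroup G, IsPGroup p Q → Q ≠ ⊥ →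
      Subgroup.normalizer (Q : Set G) ≠ ⊤ := fun Q hQ hQ1 => by
    haveI : Group.IsNilpotent Q := hQ.isNilpotent
    exact normalizer_ne_top hQ1 (ne_top_of_solvable hnc hsolv Q)
  -- the locals
  have hloc : ∀ Q : Subgroup G, IsPGroup p Q → Q ≠ ⊥ →
      Cfsg.pPrimeCore p ↥(Subgroup.normalizer (Q : Set G)) = ⊥ ∧
        Cfsg.IsPConstrained p ↥(Subgroup.normalizer (Q : Set G)) ∧
        Cfsg.IsPStable p ↥(Subgroup.normalizer (Q : Set G)) := by
    intro Q hQ hQ1
    set N := Subgroup.normalizer (Q : Set G) with hN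
    haveI : Group.IsSolvable N := hsolv N (hproper Q hQ hQ1)
    haveI hQn : (Q.subgroupOf N).Normal := Subgroup.normal_in_normalizer
    have hO : Cfsg.pPrimeCore p N = ⊥ := by
      rw [eq_bot_iff]
      intro m hm
      haveI := Transfer.pPrimeCore_normal p N
      obtain ⟨⟨v, hv⟩, hv1⟩ := Subgroup.ne_bot_iff_exists_ne_one.1 hQ1
      have hvN : v ∈ N := Subgroup.le_normalizer hv
      have hdis : Disjoint (Cfsg.pPrimeCore p N) (Q.subgroupOf N) := by
        rw [disjoint_iff_inf_le]
        intro z hz
        obtain ⟨j, hj⟩ := hQ ⟨z, hz.2⟩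
        have hj' : z ^ p ^ j = 1 := Subtype.ext (by simpa using congrArg Subtype.val hj)
        exact Subgroup.mem_bot.2 (orderOf_eq_one_iff.1 (Nat.eq_one_of_dvd_coprimes
          ((Transfer.pPrimeCore_coprime (G := N) p).pow_right j)
          (Subgroup.orderOf_dvd_natCard _ hz.1) (orderOf_dvd_of_pow_eq_one hj')))
      have hc := Subgroup.commute_of_normal_of_disjoint _ _ inferInstance hQn hdis m
        ⟨v, hvN⟩ hm (show (⟨v, hvN⟩ : N) ∈ Q.subgroupOf N from hv)
      have hmC : (m : G) ∈ Subgroup.centralizer ({v} : Set G) :=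
        Subgroup.mem_centralizer_singleton_iff.2 (congrArg Subtype.val hc.eq)
      obtain ⟨j, hj⟩ := hiso v (fun h => hv1 (Subtype.ext h))
        (hQ.to_le (Subgroup.zpowers_le.2 hv)) ⟨_, hmC⟩
      have hj' : m ^ p ^ j = 1 := Subtype.ext (by simpa using congrArg Subtype.val hj)
      exact Subgroup.mem_bot.2 (orderOf_eq_one_iff.1 (Nat.eq_one_of_dvd_coprimes
        ((Transfer.pPrimeCore_coprime (G := N) p).pow_right j)
        (Subgroup.orderOf_dvd_natCard _ hm) (orderOf_dvd_of_pow_eq_one hj')))
    refine ⟨hO, PSolvable.isPConstrained_of_isPSolvable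
      (PSolvable.isPSolvable_of_isSolvable inferInstance), hp.out.odd_of_ne_two hp2, ?_, ?_⟩
    · intro h
      apply hQ1
      have h1 : Q.subgroupOf N ≤ Cfsg.pCore p N :=
        Fitting.le_pCore hQn (hQ.comap_of_injective N.subtype N.subtype_injective)
      rw [h, le_bot_iff, Subgroup.subgroupOf_eq_bot] at h1
      exact h1.eq_bot_of_le Subgroup.le_normalizer
    · intro A T hA hT hAT _ hn hq
      exact Cfsg.Agent.S1464.result (Odd.of_dvd_nat hodd (Subgroup.card_subgroup_dvd_card N)) p hp2
        T A hT hn hA (fun a ha => Subgroup.mem_normalizer_fintype fun z hz => hAT a ha z hz) hq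
  set X := Cfsg.centerThompsonAOf (P : Subgroup G) with hX
  set M := Subgroup.normalizer (X : Set G) with hM
  have hXP : X ≤ (P : Subgroup G) := by
    rw [hX, CfsgLib.ZJ.centerThompsonAOf_eq]; exact CfsgLib.ZJ.zJ_le 0 _
  have hX1 : X ≠ ⊥ := by
    obtain ⟨z, hz, hz1, -⟩ := CfsgLib.ZJ.zJ_ne_bot (p := p) (e := 0) (Or.inl rfl) P.2 hP
    rw [hX, CfsgLib.ZJ.centerThompsonAOf_eq]
    exact fun h => hz1 (Subgroup.mem_bot.1 (h ▸ hz))
  have hMlocal : ∀ Q : Subgroup G, Q ≤ (P : Subgroup G) → Q ≠ ⊥ →
      Subgroup.normalizer (Q : Set G) ≤ M :=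
    fun Q hQ hQ1 => Cfsg.Agent.S0658.result hp2 hloc P Q hQ hQ1
  have hPM : (P : Subgroup G) ≤ M := Subgroup.le_normalizer.trans (hMlocal _ le_rfl hP)
  -- strong embedding
  have hstrong : ∀ n : ℕ, ∀ a : G,
      Nat.card (P : Subgroup G) - Nat.card ↥((P : Subgroup G) ⊓
        (P : Subgroup G).comap (MulAut.conj a).toMonoidHom) = n →
      (P : Subgroup G) ⊓ (P : Subgroup G).comap (MulAut.conj a).toMonoidHom ≠ ⊥ → a ∈ M := by
    intro n
    induction n using Nat.strong_induction_on with
    | _ n IH =>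
    intro a hn hD1
    set P' := (P : Subgroup G).comap (MulAut.conj a).toMonoidHom with hP'
    set D := (P : Subgroup G) ⊓ P' with hD
    have hP'card : Nat.card P' = Nat.card (P : Subgroup G) := by
      rw [hP']
      exact Nat.card_congr (Equiv.subtypeEquiv (MulAut.conj a).toEquiv fun _ => Iff.rfl)
    have hP'p : IsPGroup p P' :=
      P.2.comap_of_injective (MulAut.conj a).toMonoidHom (MulAut.conj a).injective
    rcases (inf_le_right : D ≤ P').eq_or_lt with heq | hlt
    · have hPP : P' = (P : Subgroup G) :=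
        Subgroup.eq_of_le_of_card_ge (heq ▸ inf_le_left) hP'card.ge
      refine hMlocal _ le_rfl hP (Subgroup.mem_normalizer_iff.2 fun z => ?_)
      conv_lhs => rw [← hPP]
      rfl
    · have hRD : D < P' ⊓ Subgroup.normalizer (D : Set G) :=
        Transfer.lt_inf_normalizer hP'p hlt
      set R := P' ⊓ Subgroup.normalizer (D : Set G) with hR
      have hRM : R ≤ M := inf_le_right.trans (hMlocal D inf_le_left hD1)
      obtain ⟨S, hS⟩ := ((hP'p.to_le inf_le_left : IsPGroup p R).comap_of_injective M.subtype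
        M.subtype_injective).exists_le_sylow
      obtain ⟨⟨m, hm⟩, hmS⟩ := MulAction.exists_smul_eq M S (P.subtype hPM)
      have hmap : R.map (MulAut.conj m).toMonoidHom ≤ (P : Subgroup G) := by
        rintro _ ⟨z, hz, rfl⟩
        have h1 : (⟨m, hm⟩ : M) * ⟨z, hRM hz⟩ * ⟨m, hm⟩⁻¹ ∈
            ((P.subtype hPM : Sylow p M) : Subgroup M) :=
          hmS ▸ ⟨⟨z, hRM hz⟩, hS (show (⟨z, hRM hz⟩ : M) ∈ R.comap M.subtype from hz), rfl⟩
        rw [Sylow.coe_subtype, Subgroup.mem_subgroupOf] at h1
        exact h1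
      set b := a * m⁻¹ with hb
      set D' := (P : Subgroup G) ⊓ (P : Subgroup G).comap (MulAut.conj b).toMonoidHom with hD'
      have hle : R.map (MulAut.conj m).toMonoidHom ≤ D' := by
        refine le_inf hmap ?_
        rintro _ ⟨z, hz, rfl⟩
        show b * (m * z * m⁻¹) * b⁻¹ ∈ (P : Subgroup G)
        rw [hb, show a * m⁻¹ * (m * z * m⁻¹) * (a * m⁻¹)⁻¹ = a * z * a⁻¹ by group]
        exact hz.1
      have hcard : Nat.card D < Nat.card D' := by
        refine lt_of_lt_of_le (Set.ncard_lt_ncard hRD (Set.toFinite _)) ?_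
        refine le_trans (le_of_eq ?_) (Subgroup.card_le_of_le hle)
        exact (Subgroup.card_map_of_injective (MulAut.conj m).injective).symm
      have hD'P : Nat.card D' ≤ Nat.card (P : Subgroup G) := Subgroup.card_le_of_le inf_le_left
      have hb' := IH (Nat.card (P : Subgroup G) - Nat.card D') (by omega) b rfl (fun h => by
        have h1 : 1 ≤ Nat.card D := Nat.card_pos
        have h2 : Nat.card D' = 1 := by rw [hD', h, Subgroup.card_bot]
        omega)
      have := mul_mem hb' hm
      rwa [hb, inv_mul_cancel_right] at this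
  have hfus : ∀ y ∈ (P : Subgroup G), ∀ a : G, a * y * a⁻¹ ∈ (P : Subgroup G) → y ≠ 1 → a ∈ M :=
    fun y hy a hay hy1 => hstrong _ a rfl fun h =>
      hy1 (Subgroup.mem_bot.1 (h ▸ Subgroup.mem_inf.2 ⟨hy, hay⟩))
  -- so `P` lies in the derived group of `M`, hence is normal there
  have hPM' : (P : Subgroup G) ≤ ⁅M, M⁆ := by
    have h := Transfer.commutator_inf_sylow_eq_of_controls P hPM fun y hy a hay => by
      rcases eq_or_ne y 1 with rfl | hy1
      · exact ⟨1, one_mem _, by simp⟩
      · exact ⟨a, hfus y hy a hay hy1, rfl⟩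
    rw [commutator_eq_top hnc, top_inf_eq] at h
    exact h.le.trans inf_le_left
  have hMtop : M ≠ ⊤ := hproper X (P.2.to_le hXP) hX1
  haveI : Group.IsSolvable M := hsolv M hMtop
  have hn : ((P.subtype hPM : Sylow p M) : Subgroup M).Normal := by
    refine normal_of_le_commutator (Odd.of_dvd_nat hodd (Subgroup.card_subgroup_dvd_card M))
      (fun y hy hyp => ?_) ?_ _ ?_
    · have h1 : IsPGroup p (Subgroup.zpowers (y : G)) := by
        have h2 := hyp.map M.subtype
        rwa [MonoidHom.map_zpowers] at h2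
      refine ((hiso y (fun h => hy (Subtype.ext h)) h1).comap_of_injective M.subtype
        M.subtype_injective).to_le ?_
      intro c hc
      rw [Subgroup.mem_centralizer_singleton_iff] at hc
      exact Subgroup.mem_centralizer_singleton_iff.2 (congrArg Subtype.val hc)
    · haveI : (X.subgroupOf M).Normal := Subgroup.normal_in_normalizer
      intro h
      have h1 : X.subgroupOf M ≤ Cfsg.pCore p M := Fitting.le_pCore inferInstance
        ((P.2.to_le hXP).comap_of_injective M.subtype M.subtype_injective)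
      rw [h, le_bot_iff, Subgroup.subgroupOf_eq_bot] at h1
      exact hX1 (h1.eq_bot_of_le Subgroup.le_normalizer)
    · rw [Sylow.coe_subtype, ← Subgroup.map_le_map_iff_of_injective M.subtype_injective,
        Subgroup.map_subgroupOf_eq_of_le hPM, Subgroup.map_subtype_commutator]
      exact hPM'
  rw [Sylow.coe_subtype] at hn
  have hMP : M ≤ Subgroup.normalizer ((P : Subgroup G) : Set G) :=
    (Subgroup.normal_subgroupOf_iff_le_normalizer hPM).1 hn
  exact hMP (hfus x hx g hgx hx1)

include hodd hnc hsolv hCN hP in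
/-- The kernels are TI subgroups. -/
theorem kernel_ti {x g : G} (hx : x ∈ kernelOf (P : Subgroup G))
    (hgx : g * x * g⁻¹ ∈ kernelOf (P : Subgroup G)) (hx1 : x ≠ 1) :
    g ∈ Subgroup.normalizer (kernelOf (P : Subgroup G) : Set G) := by
  by_cases hK : kernelOf (P : Subgroup G) = P
  · rw [hK] at hx hgx ⊢
    exact pgroup_case hodd hnc hsolv hCN P hP hK hx hgx hx1
  · exact ti_of_not_pgroup hCN P hP hK hx hgx hx1

include hodd hnc hsolv hCN hP in
/-- The kernels contain the centralizers of their nontrivial elements. -/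
theorem kernel_centralizer {x : G} (hx : x ∈ kernelOf (P : Subgroup G)) (hx1 : x ≠ 1) :
    Subgroup.centralizer ({x} : Set G) ≤ kernelOf (P : Subgroup G) := by
  rcases centralizer_le_or hCN P hP hx hx1 with h | ⟨hK, hC⟩
  · exact h
  rw [hK] at hx ⊢
  intro c hc
  have hcN : c ∈ Subgroup.normalizer ((P : Subgroup G) : Set G) := by
    refine pgroup_case hodd hnc hsolv hCN P hP hK hx ?_ hx1
    rw [Subgroup.mem_centralizer_singleton_iff] at hc
    rw [hc, mul_inv_cancel_right]
    exact hx
  have hz : IsPGroup p (Subgroup.zpowers c) := hC.to_le (Subgroup.zpowers_le.2 hc)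
  have hsup := IsPGroup.to_sup_of_normal_right' hz P.2 (Subgroup.zpowers_le.2 hcN)
  exact (le_sup_left.trans (P.3 hsup le_sup_right).le) (Subgroup.mem_zpowers c)

include hodd hnc hsolv hCN hP in
/-- No kernel is self-normalizing. -/
theorem kernel_lt_normalizer :
    kernelOf (P : Subgroup G) < Subgroup.normalizer (kernelOf (P : Subgroup G) : Set G) := by
  set K := kernelOf (P : Subgroup G) with hKdef
  refine lt_of_le_of_ne Subgroup.le_normalizer fun hN => ?_
  haveI hKn : Group.IsNilpotent K := kernelOf_nilpotent hCN P hP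
  have hne : K ≠ ⊥ := fun h => hP (le_bot_iff.1 (h ▸ le_kernelOf _))
  haveI : Nontrivial K := (Subgroup.nontrivial_iff_ne_bot K).2 hne
  -- every Sylow subgroup of `K` lies in `K'`
  have hsyl : ∀ q : ℕ, q.Prime → q ∣ Nat.card K →
      q ^ (Nat.card K).factorization q ∣ Nat.card (⁅K, K⁆ : Subgroup G) := by
    intro q hq hd
    haveI := Fact.mk hq
    obtain ⟨Q, hQK, hQ⟩ := exists_sylow_le hCN P hP hd
    have hKQ : kernelOf (Q : Subgroup G) = K := kernelOf_eq hCN P hP Q hQ hQK
    have h := Transfer.commutator_inf_sylow_eq_of_controls Q hQK fun y hy a hay => by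
      rcases eq_or_ne y 1 with rfl | hy1
      · exact ⟨1, one_mem _, by simp⟩
      · refine ⟨a, ?_, rfl⟩
        have h1 := kernel_ti hodd hnc hsolv hCN Q hQ (le_kernelOf _ hy) (le_kernelOf _ hay) hy1
        rw [hKQ] at h1
        rwa [← hN] at h1
    rw [commutator_eq_top hnc, top_inf_eq] at h
    refine dvd_trans ?_ (Subgroup.card_dvd_of_le (h.le.trans inf_le_left))
    rw [show Nat.card (Q : Subgroup G) = Nat.card (Q.subtype hQK : Subgroup K) from
      (Nat.card_congr (Subgroup.subgroupOfEquivOfLe hQK).toEquiv).symm,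
      Sylow.card_eq_multiplicity]
  have hdvd : Nat.card K ∣ Nat.card (⁅K, K⁆ : Subgroup G) := by
    rw [Nat.dvd_iff_prime_pow_dvd_dvd]
    intro q k hq hqk
    rcases Nat.eq_zero_or_pos k with rfl | hk
    · simp
    refine (pow_dvd_pow q ((hq.pow_dvd_iff_le_factorization Nat.card_pos.ne').1 hqk)).trans
      (hsyl q hq ((dvd_pow_self q hk.ne').trans hqk))
  have hle : (⁅K, K⁆ : Subgroup G) ≤ K := Subgroup.commutator_le_self K
  have heq : (⁅K, K⁆ : Subgroup G) = K := Subgroup.eq_of_le_of_card_ge hle
    (Nat.le_of_dvd Nat.card_pos hdvd)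
  refine (IsSolvable.commutator_lt_top_of_nontrivial (G := K)).ne ?_
  apply Subgroup.map_injective K.subtype_injective
  rw [Subgroup.map_subtype_commutator, heq, ← MonoidHom.range_eq_map, Subgroup.range_subtype]

end Simple

end Cfsg.Agent.CNOdd
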